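import Mathlib
import Cfsg.Agent.Lib.CharsMore.SmallTriple.Arith

/-!
# Arithmetic for simple groups of order `9 · 2^a q^b`

The two nonprincipal degrees of the principal `3`-block are a power of two and a neighbouring
prime; residues of `3^k 2^j` modulo a Mersenne prime.
-/

set_option autoImplicit false

namespace CfsgLib.CharsMore.NinePrimes

/-- A divisor of `9 · 2^a q^b` prime to `3` is `2^u q^v`. -/
theorem split_of_dvd {q a b d : ℕ} (hq : q.Prime) (hd : d ∣ 9 * 2 ^ a * q ^ b) (h3 : ¬ 3 ∣ d) :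
    ∃ u v, u ≤ a ∧ v ≤ b ∧ d = 2 ^ u * q ^ v := by
  have hc : Nat.Coprime d 9 :=
    ((Nat.prime_three.coprime_iff_not_dvd.2 h3).symm).pow_right 2
  rw [mul_assoc] at hd
  obtain ⟨m, n, hm, hn, rfl⟩ := exists_dvd_and_dvd_of_dvd_mul (hc.dvd_of_dvd_mul_left hd)
  obtain ⟨u, hu, rfl⟩ := (Nat.dvd_prime_pow Nat.prime_two).1 hm
  obtain ⟨v, hv, rfl⟩ := (Nat.dvd_prime_pow hq).1 hn
  exact ⟨u, v, hu, hv, rfl⟩

theorem two_pow_mod_nine (i : ℕ) : 2 ^ i % 9 = 2 ^ (i % 6) % 9 := by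
  conv_lhs => rw [← Nat.div_add_mod i 6, pow_add, pow_mul, Nat.mul_mod, Nat.pow_mod]
  simp

/-- The possible degrees: `8, 7` or `q, 2^i` with `q` a Mersenne or Fermat prime. -/
theorem degree_cases {q a b f x : ℕ} {σ δ : ℤ} (hq : q.Prime) (hq2 : q ≠ 2) (hq3 : q ≠ 3)
    (hf : f ∣ 9 * 2 ^ a * q ^ b) (hx : x ∣ 9 * 2 ^ a * q ^ b) (hf3 : ¬ 3 ∣ f) (hx3 : ¬ 3 ∣ x)
    (hf2 : 2 ≤ f) (hx2 : 2 ≤ x) (hσ : σ = 1 ∨ σ = -1) (hδ : δ = 1 ∨ δ = -1)
    (hrel : δ * (x : ℤ) = 1 + σ * f) (h9 : (9 : ℤ) ∣ (f : ℤ) - σ) :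
    (f = 8 ∧ x = 7 ∧ q = 7 ∧ σ = -1 ∧ δ = -1) ∨
      ∃ i, f = q ∧ x = 2 ^ i ∧ δ = σ ∧
        ((σ = 1 ∧ q + 1 = 2 ^ i ∧ 7 ≤ i) ∨ (σ = -1 ∧ q = 2 ^ i + 1 ∧ i % 6 = 4)) := by
  have hσδ : δ = σ ∧ ((σ = 1 ∧ x = f + 1) ∨ (σ = -1 ∧ x + 1 = f)) := by
    rcases hσ with rfl | rfl <;> rcases hδ with rfl | rfl <;> omega
  obtain ⟨rfl, hxf⟩ := hσδ
  have hq5 : 5 ≤ q := by
    have := hq.two_le
    rcases Nat.lt_or_ge q 5 with h | h
    · interval_cases q <;> first | omega | norm_num at hq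
    · exact h
  -- the two degrees are coprime
  have hco : ∀ d : ℕ, 2 ≤ d → d ∣ f → ¬ d ∣ x := fun d hd h1 h2 => by
    have h3 : d ∣ 1 := by
      rcases hxf with ⟨-, h⟩ | ⟨-, h⟩
      · rw [h] at h2; exact (Nat.dvd_add_right h1).1 h2
      · rw [← h] at h1; exact (Nat.dvd_add_right h2).1 h1
    have := Nat.le_of_dvd one_pos h3
    omega
  obtain ⟨u, v, -, -, hfe⟩ := split_of_dvd hq hf hf3
  obtain ⟨u', v', -, -, hxe⟩ := split_of_dvd hq hx hx3
  have hodd : f % 2 = 0 ∧ x % 2 = 1 ∨ f % 2 = 1 ∧ x % 2 = 0 := by omega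
  have h20 : ∀ m n : ℕ, (2 ^ m * n) % 2 = 1 → m = 0 := fun m n h => by
    by_contra hm
    obtain ⟨k, rfl⟩ : ∃ k, m = k + 1 := ⟨m - 1, by omega⟩
    rw [pow_succ, mul_comm _ 2, mul_assoc, Nat.mul_mod_right] at h
    omega
  rcases hodd with ⟨hfev, hxo⟩ | ⟨hfo, hxev⟩
  · -- `f` is a power of two
    obtain rfl := h20 _ _ (hxe ▸ hxo)
    rw [pow_zero, one_mul] at hxe
    have hv' : 1 ≤ v' := Nat.one_le_iff_ne_zero.2 fun h => by rw [h, pow_zero] at hxe; omega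
    obtain rfl : v = 0 := by
      by_contra h
      exact hco q (by omega) (hfe ▸ dvd_mul_of_dvd_right (dvd_pow_self q h) _)
        (hxe ▸ dvd_pow_self q (by omega))
    rw [pow_zero, mul_one] at hfe
    obtain rfl : v' = 1 := SmallTriple.exponent_eq_one hq hq5 hv' (x := u) (by omega)
    rw [pow_one] at hxe
    have h9' : 2 ^ (u % 6) % 9 = 2 ^ u % 9 := (two_pow_mod_nine u).symm
    rcases hxf with ⟨hs, hxf⟩ | ⟨hs, hxf⟩
    · exfalso
      subst hs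
      have hu6 : u % 6 = 0 := by
        have : u % 6 < 6 := Nat.mod_lt _ (by norm_num)
        interval_cases h : u % 6 <;> omega
      obtain ⟨m, rfl⟩ : ∃ m, u = 6 * m := ⟨u / 6, by omega⟩
      have hdvd : 2 ^ (2 * m) + 1 ∣ q := by
        rw [← hxe, hxf, hfe, show 6 * m = 2 * m * 3 by ring, pow_mul 2 (2 * m) 3]
        simpa using Odd.nat_add_dvd_pow_add_pow (2 ^ (2 * m)) 1 (show Odd 3 by decide)
      rcases hq.eq_one_or_self_of_dvd _ hdvd with h | h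
      · have := Nat.one_le_two_pow (n := 2 * m); omega
      · have : 2 ^ (2 * m) = 2 ^ (6 * m) := by omega
        have := Nat.pow_right_injective le_rfl this
        obtain rfl : m = 0 := by omega
        omega
    · left
      subst hs
      have hu3 : u % 6 = 3 := by
        have : u % 6 < 6 := Nat.mod_lt _ (by norm_num)
        interval_cases h : u % 6 <;> omega
      obtain ⟨m, rfl⟩ : ∃ m, u = 3 * m := ⟨u / 3, by omega⟩
      have h7 : 7 ∣ q := by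
        have : 2 ^ 3 - 1 ∣ 2 ^ (3 * m) - 1 := Nat.pow_sub_one_dvd_pow_sub_one 2 (dvd_mul_right 3 m)
        rwa [show 2 ^ (3 * m) - 1 = q by omega] at this
      obtain rfl : q = 7 := ((Nat.prime_dvd_prime_iff_eq (by norm_num) hq).1 h7).symm
      exact ⟨by omega, hxe, rfl, rfl, rfl⟩
  · -- `x` is a power of two
    right
    obtain rfl := h20 _ _ (hfe ▸ hfo)
    rw [pow_zero, one_mul] at hfe
    have hv : 1 ≤ v := Nat.one_le_iff_ne_zero.2 fun h => by rw [h, pow_zero] at hfe; omega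
    obtain rfl : v' = 0 := by
      by_contra h
      exact hco q (by omega) (hfe ▸ dvd_pow_self q (by omega))
        (hxe ▸ dvd_mul_of_dvd_right (dvd_pow_self q h) _)
    rw [pow_zero, mul_one] at hxe
    obtain rfl : v = 1 := SmallTriple.exponent_eq_one hq hq5 hv (x := u') (by omega)
    rw [pow_one] at hfe
    have h9' : 2 ^ (u' % 6) % 9 = 2 ^ u' % 9 := (two_pow_mod_nine u').symm
    refine ⟨u', hfe, hxe, rfl, ?_⟩
    rcases hxf with ⟨hs, hxf⟩ | ⟨hs, hxf⟩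
    · subst hs
      have hu1 : u' % 6 = 1 := by
        have : u' % 6 < 6 := Nat.mod_lt _ (by norm_num)
        interval_cases h : u' % 6 <;> omega
      refine Or.inl ⟨rfl, by omega, ?_⟩
      by_contra h7
      obtain rfl : u' = 1 := by omega
      omega
    · subst hs
      have hu4 : u' % 6 = 4 := by
        have : u' % 6 < 6 := Nat.mod_lt _ (by norm_num)
        interval_cases h : u' % 6 <;> omega
      exact Or.inr ⟨rfl, by omega, hu4⟩

/-- For a Mersenne prime `q = 2^i - 1` only powers of two among `3^k 2^j`, `k ≤ 2`, are `±1`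
modulo `q`, and they are `+1`. -/
theorem mersenne_residue {q i j k : ℕ} (hqi : q + 1 = 2 ^ i) (hi : 7 ≤ i) (hk : k ≤ 2) {ε : ℤ}
    (hε : ε = 1 ∨ ε = -1) (h : (q : ℤ) ∣ ((3 ^ k * 2 ^ j : ℕ) : ℤ) - ε) : k = 0 ∧ ε = 1 := by
  have h128 : 2 ^ 7 ≤ 2 ^ i := Nat.pow_le_pow_right (by norm_num) hi
  have hi1 : (2 ^ i : ℤ) = q + 1 := by exact_mod_cast hqi.symm
  have hred : (q : ℤ) ∣ ((3 ^ k * 2 ^ (j % i) : ℕ) : ℤ) - ε := by
    have h1 : (q : ℤ) ∣ ((2 : ℤ) ^ i) ^ (j / i) - 1 := by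
      have := sub_one_dvd_pow_sub_one ((2 : ℤ) ^ i) (j / i)
      rw [hi1] at this ⊢
      simpa using this
    have h2 : ((3 ^ k * 2 ^ j : ℕ) : ℤ) - ε =
        (((3 ^ k * 2 ^ (j % i) : ℕ) : ℤ) - ε) +
          ((3 ^ k * 2 ^ (j % i) : ℕ) : ℤ) * (((2 : ℤ) ^ i) ^ (j / i) - 1) := by
      conv_lhs => rw [← Nat.div_add_mod j i]
      push_cast
      rw [pow_add, pow_mul]
      ring
    rw [h2] at h
    exact (dvd_add_left (h1.mul_left _)).1 h
  have hr : j % i < i := Nat.mod_lt _ (by omega)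
  obtain ⟨r, hr0⟩ : ∃ r, r = j % i := ⟨_, rfl⟩
  rw [← hr0] at hr hred
  obtain ⟨c, hc⟩ := hred
  have h3k : 1 ≤ 3 ^ k ∧ 3 ^ k ≤ 9 := by interval_cases k <;> norm_num
  have hr2 : 2 ^ r * 2 ≤ 2 ^ i := by
    rw [← pow_succ]; exact Nat.pow_le_pow_right (by norm_num) hr
  have hpos : 1 ≤ 2 ^ r := Nat.one_le_two_pow
  obtain ⟨w, hw⟩ : ∃ w, w = 3 ^ k * 2 ^ r := ⟨_, rfl⟩
  rw [← hw] at hc
  have hwle : 2 * w ≤ 9 * 2 ^ i := by
    calc 2 * w = 3 ^ k * (2 ^ r * 2) := by rw [hw]; ring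
      _ ≤ 9 * 2 ^ i := Nat.mul_le_mul h3k.2 hr2
  have hw1 : 1 ≤ w := hw ▸ Nat.one_le_iff_ne_zero.2 (by positivity)
  have hqpos : (0 : ℤ) < q := by omega
  have hc0 : 0 ≤ c := by
    by_contra hneg
    have : (q : ℤ) * c ≤ -(q : ℤ) := by nlinarith
    rcases hε with rfl | rfl <;> omega
  have hc4 : c ≤ 4 := by
    by_contra hbig
    have : (q : ℤ) * 5 ≤ q * c := by nlinarith
    rcases hε with rfl | rfl <;> omega
  rcases Nat.lt_or_ge r 3 with hr3 | hr3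
  · have hw36 : w ≤ 36 := by
      rw [hw]; interval_cases r <;> omega
    have hc00 : c = 0 := by
      by_contra hne
      have : (q : ℤ) ≤ q * c := le_mul_of_one_le_right hqpos.le (by omega)
      rcases hε with rfl | rfl <;> omega
    rw [hc00, mul_zero, sub_eq_zero] at hc
    refine ⟨?_, by rcases hε with rfl | rfl <;> omega⟩
    have hw1' : w = 1 := by rcases hε with rfl | rfl <;> omega
    rw [hw] at hw1'
    by_contra hk0
    have := Nat.le_mul_of_pos_right (3 ^ k) (Nat.two_pow_pos r)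
    have := Nat.le_self_pow hk0 3
    omega
  · obtain ⟨W, hW⟩ : 8 ∣ 2 ^ r := pow_dvd_pow 2 hr3
    obtain ⟨I, hI⟩ : 8 ∣ 2 ^ i := pow_dvd_pow 2 (show 3 ≤ i by omega)
    have hc1 : c = 1 ∧ ε = 1 := by
      have h8 : (8 : ℤ) ∣ w := ⟨((3 ^ k * W : ℕ) : ℤ), by rw [hw, hW]; push_cast; ring⟩
      have h8' : (8 : ℤ) ∣ (q : ℤ) * c + c :=
        ⟨(I : ℤ) * c, by rw [← add_one_mul, ← hi1]; rw [show (2 : ℤ) ^ i = ((2 ^ i : ℕ) : ℤ) by push_cast; rfl, hI]; push_cast; ring⟩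
      rcases hε with rfl | rfl <;> omega
    obtain ⟨rfl, rfl⟩ := hc1
    refine ⟨?_, rfl⟩
    have hwi : w = 2 ^ i := by omega
    by_contra hk0
    have h3 : 3 ∣ 2 ^ i := hwi ▸ hw ▸ dvd_mul_of_dvd_left (dvd_pow_self 3 hk0) _
    have := Nat.prime_three.dvd_of_dvd_pow h3
    norm_num at this

/-- The Fermat prime is `17`. -/
theorem fermat_seventeen {q i k θ : ℕ} (hqi : q = 2 ^ i + 1) (hi : i % 6 = 4) (hk : 2 ^ k ∣ 2 ^ i)
    (hθ : θ = 3 ∨ θ = 9)
    (h : (q : ℤ) ∣ (θ : ℤ) - (2 ^ k : ℕ) ∨ (q : ℤ) ∣ (θ : ℤ) + (2 ^ k : ℕ)) :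
    i = 4 ∧ k = 3 := by
  have hki : k ≤ i := (Nat.pow_dvd_pow_iff_le_right (by norm_num)).1 hk
  have h16 : 2 ^ 4 ≤ 2 ^ i := Nat.pow_le_pow_right (by norm_num) (by omega)
  have hle : 2 ^ k ≤ 2 ^ i := Nat.pow_le_pow_right (by norm_num) hki
  have hqpos : (0 : ℤ) < q := by omega
  rcases h with ⟨c, hc⟩ | ⟨c, hc⟩
  · exfalso
    have hc0 : c = 0 := by
      rcases lt_trichotomy c 0 with h | h | h
      · have : (q : ℤ) * c ≤ -(q : ℤ) := by nlinarith
        omega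
      · exact h
      · have : (q : ℤ) ≤ q * c := le_mul_of_one_le_right hqpos.le (by omega)
        omega
    rw [hc0, mul_zero] at hc
    have h2 : 2 ^ k = θ := by omega
    rcases k with _ | k
    · rw [pow_zero] at h2; omega
    · rw [pow_succ] at h2; omega
  · have hc1 : c = 1 := by
      rcases lt_trichotomy c 1 with h | h | h
      · have : (q : ℤ) * c ≤ 0 := by nlinarith
        omega
      · exact h
      · have : (q : ℤ) * 2 ≤ q * c := by nlinarith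
        omega
    rw [hc1, mul_one] at hc
    have hdiff : 2 ^ i = 2 ^ k + (θ - 1) := by omega
    rcases Nat.lt_or_ge k 4 with hk4 | hk4
    · have hi' : i = 4 := by
        by_contra hne
        have : 2 ^ 10 ≤ 2 ^ i := Nat.pow_le_pow_right (by norm_num) (by omega)
        interval_cases k <;> omega
      subst hi'
      refine ⟨rfl, ?_⟩
      interval_cases k <;> omega
    · exfalso
      obtain ⟨W, hW⟩ : 16 ∣ 2 ^ k := pow_dvd_pow 2 hk4
      obtain ⟨I, hI⟩ : 16 ∣ 2 ^ i := pow_dvd_pow 2 (show 4 ≤ i by omega)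
      omega

/-- The exponent of two from the count of Sylow subgroups. -/
theorem exponent_seven {a e n : ℕ} (he : e ∣ 6) (he1 : 1 < e) (ha : a ≤ 6) (hn : n % 7 = 1)
    (h : n * e = 9 * 2 ^ a) : a = 3 ∨ a = 6 := by
  have := Nat.le_of_dvd (by norm_num) he
  interval_cases a <;> interval_cases e <;> omega

theorem exponent_seventeen {a n : ℕ} (ha4 : 4 ≤ a) (ha : a ≤ 8) (hn : n % 17 = 1)
    (h : n * 8 = 9 * 2 ^ a) : a = 4 := by
  interval_cases a <;> omega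

end CfsgLib.CharsMore.NinePrimes
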