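import Mathlib
import Cfsg.Agent.S4709
import Cfsg.Agent.Lib.Transfer.NormalPComplement
import Cfsg.Agent.Lib.CharApps.ClassCount
import Cfsg.Agent.Lib.CharsMore.SmallTriple.Main

/-!
# The principal `3`-block when the Sylow subgroup of order nine is inverted

Six characters `1, f` and four of equal degree; the truncated class sum at an element of order
three.
-/

set_option autoImplicit false
set_option linter.style.haveILetI false
set_option linter.unusedSectionVars false

namespace CfsgLib.CharsMore.NinePrimes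

open Cfsg CfsgLib CfsgLib.Chars CfsgLib.CharApps Subgroup
open scoped ComplexConjugate

universe u

variable {G : Type u} [Group G]

/-- A Sylow `3`-subgroup of order nine, abelian, whose normalizer acts as `±1`. -/
structure Inverted (R : Sylow 3 G) : Prop where
  card : Nat.card (R : Subgroup G) = 9
  comm : ∀ x ∈ (R : Subgroup G), ∀ y ∈ (R : Subgroup G), x * y = y * x
  exists_inv : ∃ g ∈ normalizer ((R : Subgroup G) : Set G), ∀ x ∈ (R : Subgroup G), g * x * g⁻¹ = x⁻¹
  pm : ∀ g ∈ normalizer ((R : Subgroup G) : Set G),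
    (∀ x ∈ (R : Subgroup G), g * x * g⁻¹ = x) ∨ (∀ x ∈ (R : Subgroup G), g * x * g⁻¹ = x⁻¹)

namespace Inverted

variable {R : Sylow 3 G} (H : Inverted R)
include H

theorem le_centralizer : (R : Subgroup G) ≤ centralizer ((R : Subgroup G) : Set G) := fun x hx =>
  mem_centralizer_iff.2 fun y hy => H.comm y hy x hx

theorem mem_centralizer_of {g : G}
    (h : ∀ x ∈ (R : Subgroup G), g * x * g⁻¹ = x) : g ∈ centralizer ((R : Subgroup G) : Set G) :=
  mem_centralizer_iff.2 fun x hx => (mul_inv_eq_iff_eq_mul.1 (h x hx)).symm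

theorem inv_ne {x : G} (hx : x ∈ (R : Subgroup G)) (hx1 : x ≠ 1) [Finite G] : x⁻¹ ≠ x := by
  intro h
  have h2 : orderOf x ∣ 2 := orderOf_dvd_of_pow_eq_one (by
    rw [sq]; nth_rewrite 1 [← h]; rw [inv_mul_cancel])
  have h9 : orderOf x ∣ 9 := H.card ▸ Subgroup.orderOf_dvd_natCard _ hx
  exact hx1 (orderOf_eq_one_iff.1 (Nat.eq_one_of_dvd_coprimes (by norm_num) h2 h9))

theorem mem_centralizer_of_commute [Finite G] {g x : G} (hg : g ∈ normalizer ((R : Subgroup G) : Set G))
    (hx : x ∈ (R : Subgroup G)) (hx1 : x ≠ 1) (h : g * x = x * g) :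
    g ∈ centralizer ((R : Subgroup G) : Set G) := by
  rcases H.pm g hg with h' | h'
  · exact H.mem_centralizer_of h'
  · exact absurd ((h' x hx).symm.trans (mul_inv_eq_iff_eq_mul.2 h)) (H.inv_ne hx hx1)

theorem exists_ne_one : ∃ x ∈ (R : Subgroup G), x ≠ 1 := by
  by_contra h
  push Not at h
  have : (R : Subgroup G) = ⊥ := (Subgroup.eq_bot_iff_forall _).2 h
  have := H.card
  simp_all

variable [Finite G]

theorem relIndex_eq : (centralizer ((R : Subgroup G) : Set G)).relIndex
    (normalizer ((R : Subgroup G) : Set G)) = 2 := by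
  rw [Subgroup.relIndex, Subgroup.index_eq_two_iff]
  obtain ⟨g, hg, hinv⟩ := H.exists_inv
  obtain ⟨x, hx, hx1⟩ := H.exists_ne_one
  have hnot : ∀ b : G, (∀ y ∈ (R : Subgroup G), b * y * b⁻¹ = y⁻¹) →
      b ∉ centralizer ((R : Subgroup G) : Set G) := fun b hb hc => H.inv_ne hx hx1 (by
    rw [← hb x hx, mul_inv_eq_iff_eq_mul]
    exact (mem_centralizer_iff.1 hc x hx).symm)
  refine ⟨⟨g, hg⟩, fun b => ?_⟩
  rcases H.pm b b.2 with hb | hb
  · have hbC : (b : G) ∈ centralizer ((R : Subgroup G) : Set G) := H.mem_centralizer_of hb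
    refine Or.inr ⟨mem_subgroupOf.2 hbC, fun h => hnot g hinv ?_⟩
    exact (Subgroup.mul_mem_cancel_left _ hbC).1 (mem_subgroupOf.1 h)
  · refine Or.inl ⟨mem_subgroupOf.2 (H.mem_centralizer_of fun y hy => ?_),
      fun h => hnot b hb (mem_subgroupOf.1 h)⟩
    show (b : G) * g * y * ((b : G) * g)⁻¹ = y
    calc (b : G) * g * y * ((b : G) * g)⁻¹ = (b : G) * (g * y * g⁻¹) * (b : G)⁻¹ := by group
      _ = y := by rw [hinv y hy, hb _ (inv_mem hy), inv_inv]

theorem generated : ∃ g : G, g ∈ normalizer ((R : Subgroup G) : Set G) ∧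
    centralizer ((R : Subgroup G) : Set G) ⊔ zpowers g = normalizer ((R : Subgroup G) : Set G) := by
  obtain ⟨g, hg, hinv⟩ := H.exists_inv
  refine ⟨g, hg, le_antisymm (sup_le (centralizer_le_normalizer _) (zpowers_le.2 hg)) fun b hb => ?_⟩
  rcases H.pm b hb with hb' | hb'
  · exact mem_sup_left (H.mem_centralizer_of hb')
  · have hm : b * g ∈ centralizer ((R : Subgroup G) : Set G) := H.mem_centralizer_of fun y hy => by
      calc b * g * y * (b * g)⁻¹ = b * (g * y * g⁻¹) * b⁻¹ := by group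
        _ = y := by rw [hinv y hy, hb' _ (inv_mem hy), inv_inv]
    have := mul_mem (mem_sup_left (T := zpowers g) hm) (mem_sup_right (inv_mem (mem_zpowers g)))
    simpa using this

/-- The centralizer of a nonidentity element of `R` has a normal `3`-complement. -/
theorem exists_complement {y : G} (hy : y ∈ (R : Subgroup G)) (hy1 : y ≠ 1) :
    ∃ (K : Subgroup (centralizer ({y} : Set G))) (k : ℕ), K.Normal ∧ ¬ 3 ∣ Nat.card K ∧
      K.index = 3 ^ k := by
  have hle : (R : Subgroup G) ≤ centralizer ({y} : Set G) := fun x hx =>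
    mem_centralizer_singleton_iff.2 (H.comm x hx y hy)
  obtain ⟨Q, K, hKn, hK⟩ := Transfer.hasNormalPComplement_of_normalizer_le_centralizer
    (R.subtype hle) (fun c hc => by
      have hcN : (c : G) ∈ normalizer ((R : Subgroup G) : Set G) :=
        Subgroup.mem_normalizer_iff.2 fun x => ⟨fun hx => by
          have := (Subgroup.mem_normalizer_iff.1 hc (⟨x, hle hx⟩ : centralizer ({y} : Set G))).1
            (by simpa [Sylow.coe_subtype, mem_subgroupOf] using hx)
          simpa [Sylow.coe_subtype, mem_subgroupOf] using this, fun hx => by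
          have h2 := (Subgroup.mem_normalizer_iff.1 (inv_mem hc)
            (⟨(c : G) * x * (c : G)⁻¹, hle hx⟩ : centralizer ({y} : Set G))).1
            (by simpa [Sylow.coe_subtype, mem_subgroupOf] using hx)
          simpa [Sylow.coe_subtype, mem_subgroupOf, mul_assoc] using h2⟩
      have hC := H.mem_centralizer_of_commute hcN hy hy1 (mem_centralizer_singleton_iff.1 c.2)
      refine mem_centralizer_iff.2 fun x hx => Subtype.ext ?_
      have hxR : x ∈ ((R.subtype hle : Sylow 3 _) : Subgroup (centralizer ({y} : Set G))) :=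
        SetLike.mem_coe.1 hx
      rw [Sylow.coe_subtype, mem_subgroupOf] at hxR
      exact mem_centralizer_iff.1 hC (x : G) hxR)
  obtain ⟨k, hk⟩ := Q.2.exists_card_eq
  refine ⟨K, k, hKn, fun h => Q.not_dvd_index ?_, ?_⟩
  · rwa [hK.index_eq_card]
  · rw [hK.symm.index_eq_card, hk]

end Inverted

/-- The data of the principal block. -/
structure Block [Fintype G] (M : Ideal AlgInt) (R : Sylow 3 G) where
  f : IrrCharacter G
  Y : Finset (IrrCharacter G)
  σ : ℤ
  δ : ℤ
  x : ℕ
  hσ : σ = 1 ∨ σ = -1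
  hδ : δ = 1 ∨ δ = -1
  ne : f ≠ principal G
  mem : f ∈ principalBlock M G
  Y_ne : ∀ η ∈ Y, η ≠ principal G ∧ η ≠ f
  nonempty : Y.Nonempty
  block : ∀ χ : IrrCharacter G, χ ∈ principalBlock M G ↔ χ = principal G ∨ χ = f ∨ χ ∈ Y
  f_val : ∀ z y : G, IsPPart 3 z y → y ∈ (R : Subgroup G) → y ≠ 1 → (f : G → ℂ) z = σ
  Y_deg : ∀ η ∈ Y, charDegree (η : G → ℂ) = x
  rel : δ * (x : ℤ) = 1 + σ * charDegree (f : G → ℂ)
  rel_apply : ∀ η ∈ Y, ∀ g : G, ¬ 3 ∣ orderOf g → (δ : ℂ) * (η : G → ℂ) g = 1 + σ * (f : G → ℂ) g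
  Y_sum : ∀ y ∈ (R : Subgroup G), y ≠ 1 → ∑ η ∈ Y, (η : G → ℂ) y = -δ
  f_mod : (9 : ℤ) ∣ (charDegree (f : G → ℂ) : ℤ) - σ

theorem isPPart_self [Fintype G] {R : Sylow 3 G} {y : G} (hy : y ∈ (R : Subgroup G)) :
    IsPPart 3 y y := by
  refine ⟨1, mul_one y, Commute.one_right y, ?_, by simp⟩
  obtain ⟨k, hk⟩ := IsPGroup.iff_orderOf.1 R.2 ⟨y, hy⟩
  exact ⟨k, by rwa [Subgroup.orderOf_mk] at hk⟩

theorem exists_block [Fintype G] {M : Ideal AlgInt}
    (hM : IsPModular 3 M) {R : Sylow 3 G} (H : Inverted R) : Nonempty (Block M R) := by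
  classical
  haveI := Fact.mk Nat.prime_three
  haveI : M.IsPrime := hM.2.1.isPrime
  haveI := irrFintype G
  have hab : IsMulCommutative (R : Subgroup G) :=
    ⟨⟨fun a b => Subtype.ext (H.comm a a.2 b b.2)⟩⟩
  obtain ⟨s, X, Y, hs, hB, hdisj, hX, hY, ⟨χ₁, hχ₁X, hχ₁⟩, a, d, δ, ζ, hδ, hXv, -, -, -, -, heq,
    hYreg, hrel⟩ := Agent.S4709.result 3 M hM R hab (by rw [H.card]; norm_num) 2 one_lt_two
      (by rw [H.card]; norm_num) H.relIndex_eq H.generated (fun y hy hy1 => le_antisymm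
        (fun c hc => H.mem_centralizer_of_commute hc.2 hy hy1 (mem_centralizer_singleton_iff.1 hc.1))
        (le_inf (fun c hc => mem_centralizer_singleton_iff.2 (mem_centralizer_iff.1 hc y hy).symm)
          (centralizer_le_normalizer _)))
  rw [H.card] at hY heq hrel
  obtain rfl : χ₁ = principal G := Subtype.ext (hχ₁.trans (funext fun g => (principal_apply g).symm))
  obtain ⟨u, hu, hu1⟩ := H.exists_ne_one
  have ha1 : a (principal G) = 1 := by
    have h := (hXv _ hχ₁X).2 u u (isPPart_self hu) hu hu1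
    rw [principal_apply] at h
    exact_mod_cast h.symm
  rw [finsum_mem_eq_finite_toFinset_sum _ (Set.toFinite X),
    ← Finset.add_sum_erase _ _ ((Set.toFinite X).mem_toFinset.2 hχ₁X), ha1] at heq
  obtain ⟨T, hT⟩ : ∃ T, T = (Set.toFinite X).toFinset.erase (principal G) := ⟨_, rfl⟩
  rw [← hT] at heq
  have hTmem : ∀ χ, χ ∈ T ↔ χ ≠ principal G ∧ χ ∈ X := fun χ => by simp [hT]
  have hsq : ∀ χ ∈ T, (1 : ℤ) ≤ a χ ^ 2 := fun χ hχ => by
    have h0 := (hXv χ ((hTmem χ).1 hχ).2).1
    have : 0 < a χ ^ 2 := by positivity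
    omega
  have hTsum : (T.card : ℤ) ≤ ∑ χ ∈ T, a χ ^ 2 := by
    simpa using Finset.sum_le_sum hsq
  have hTcard : T.card ≤ 1 := by
    rw [hT, Finset.card_erase_of_mem ((Set.toFinite X).mem_toFinset.2 hχ₁X)]
    have : (Set.toFinite X).toFinset.card = s := by
      rw [← hX, ← Nat.card_eq_card_finite_toFinset]
    omega
  have hδ2 : δ ^ 2 = 1 := by rcases hδ with rfl | rfl <;> norm_num
  norm_num at heq
  obtain rfl : d = 0 := by
    by_contra hd
    have : 0 < d ^ 2 := by positivity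
    nlinarith [sq_nonneg (d - δ)]
  obtain ⟨f, hf⟩ : ∃ f, T = {f} := by
    refine Finset.card_eq_one.1 (le_antisymm hTcard (Finset.card_pos.2 ?_))
    by_contra h
    rw [Finset.not_nonempty_iff_eq_empty.1 h] at heq
    simp at heq
    omega
  rw [hf, Finset.sum_singleton] at heq
  have hσ : a f = 1 ∨ a f = -1 := sq_eq_one_iff.1 (by nlinarith)
  have hfX : f ≠ principal G ∧ f ∈ X := (hTmem f).1 (hf ▸ Finset.mem_singleton_self f)
  have hXeq : ∀ χ, χ ∈ X ↔ χ = principal G ∨ χ = f := fun χ => by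
    refine ⟨fun h => ?_, fun h => by rcases h with rfl | rfl; exacts [hχ₁X, hfX.2]⟩
    by_cases h1 : χ = principal G
    · exact Or.inl h1
    · exact Or.inr (Finset.mem_singleton.1 (hf ▸ (hTmem χ).2 ⟨h1, h⟩))
  have hrel' : ∀ η ∈ Y, ∀ g : G, ¬ 3 ∣ orderOf g →
      (δ : ℂ) * (η : G → ℂ) g = 1 + (a f : ℂ) * (f : G → ℂ) g := by
    intro η hη g hg
    have h := hrel η hη g hg
    rw [finsum_mem_eq_finite_toFinset_sum _ (Set.toFinite X),
      ← Finset.add_sum_erase _ _ ((Set.toFinite X).mem_toFinset.2 hχ₁X), ← hT, hf,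
      Finset.sum_singleton, ha1, principal_apply] at h
    push_cast at h
    linear_combination -h
  have h1reg : ¬ 3 ∣ orderOf (1 : G) := by simp
  obtain ⟨η₀, hη₀⟩ : Y.Nonempty := Set.nonempty_of_ncard_ne_zero (by
    rw [← Nat.card_coe_set_eq, hY]; norm_num)
  have hdeg : ∀ η ∈ Y, charDegree (η : G → ℂ) = charDegree (η₀ : G → ℂ) := fun η hη => by
    have h := hYreg η hη η₀ hη₀ 1 h1reg
    rw [CharApps.deg_eq, CharApps.deg_eq] at h
    exact_mod_cast h
  have hrel1 : δ * (charDegree (η₀ : G → ℂ) : ℤ) = 1 + a f * charDegree (f : G → ℂ) := by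
    have h := hrel' η₀ hη₀ 1 h1reg
    rw [CharApps.deg_eq, CharApps.deg_eq] at h
    exact_mod_cast h
  have hfY : f ∉ Y := fun h => Set.disjoint_left.1 hdisj hfX.2 h
  have hpY : principal G ∉ Y := fun h => Set.disjoint_left.1 hdisj hχ₁X h
  have hblock : ∀ χ : IrrCharacter G,
      χ ∈ principalBlock M G ↔ χ = principal G ∨ χ = f ∨ χ ∈ (Set.toFinite Y).toFinset := fun χ => by
    rw [hB, Set.mem_union, hXeq, Set.Finite.mem_toFinset, or_assoc]
  refine ⟨⟨f, (Set.toFinite Y).toFinset, a f, δ, charDegree (η₀ : G → ℂ), hσ, hδ, hfX.1,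
    (hblock f).2 (Or.inr (Or.inl rfl)), fun η hη => ?_, ⟨η₀, by simpa using hη₀⟩, hblock,
    fun z y hz hy hy1 => (hXv f hfX.2).2 z y hz hy hy1, fun η hη => hdeg η (by simpa using hη),
    hrel1, fun η hη g hg => hrel' η (by simpa using hη) g hg, fun y hy hy1 => ?_, ?_⟩⟩
  · rw [Set.Finite.mem_toFinset] at hη
    exact ⟨fun e => hpY (e ▸ hη), fun e => hfY (e ▸ hη)⟩
  · -- column orthogonality with the degrees
    have hk : ∃ k : ℕ, y ^ 3 ^ k = 1 := by
      obtain ⟨k, hk⟩ := R.2 ⟨y, hy⟩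
      exact ⟨k, by simpa using congrArg Subtype.val hk⟩
    haveI : Fintype {χ : IrrCharacter G // χ ∈ principalBlock M G} := Fintype.ofFinite _
    have h := Blocks.principal_deg (p := 3) hM h1reg hk hy1
    rw [← Finset.sum_subtype (insert (principal G) (insert f (Set.toFinite Y).toFinset))
      (fun χ => by simp [hblock χ]) (fun χ : IrrCharacter G => (χ : G → ℂ) 1 * (χ : G → ℂ) y),
      Finset.sum_insert (by simp [hfX.1.symm, hpY]), Finset.sum_insert (by simp [hfY]),
      principal_apply, principal_apply, (hXv f hfX.2).2 y y (isPPart_self hy) hy hy1,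
      CharApps.deg_eq f, Finset.sum_congr rfl fun η hη => by
        rw [CharApps.deg_eq η, hdeg η (by simpa using hη)], ← Finset.mul_sum] at h
    have hx0 : ((charDegree (η₀ : G → ℂ) : ℕ) : ℂ) ≠ 0 := by
      rw [← CharApps.deg_eq]; exact CharApps.deg_ne_zero η₀
    refine mul_left_cancel₀ hx0 ?_
    have hc : (δ : ℂ) * (charDegree (η₀ : G → ℂ) : ℂ) = 1 + (a f : ℂ) * charDegree (f : G → ℂ) := by
      exact_mod_cast hrel1
    linear_combination h + hc
  · -- the restriction to `R`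
    haveI := Fintype.ofFinite (R : Subgroup G)
    obtain ⟨m, hm⟩ := inner_irr_right_nat (isCharacter_restrict (R : Subgroup G)
      (isCharacter_of_irr f.2)) (principal (R : Subgroup G))
    rw [inner_def, inv_mul_eq_iff_eq_mul₀ (card_ne_zero _), H.card,
      ← Finset.add_sum_erase _ _ (Finset.mem_univ (1 : (R : Subgroup G)))] at hm
    simp only [principal_apply, map_one, mul_one] at hm
    rw [Finset.sum_congr rfl fun (v : (R : Subgroup G)) hv => (hXv f hfX.2).2 v v (isPPart_self v.2)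
      v.2 (fun e => Finset.ne_of_mem_erase hv (Subtype.ext e)), Finset.sum_const,
      Finset.card_erase_of_mem (Finset.mem_univ _), Finset.card_univ, ← Nat.card_eq_fintype_card,
      H.card, OneMemClass.coe_one, CharApps.deg_eq] at hm
    have hm' : (charDegree (f : G → ℂ) : ℤ) + 8 * a f = 9 * m := by
      norm_num at hm
      exact_mod_cast hm
    exact ⟨(m : ℤ) - a f, by omega⟩

/-- A truncated class sum: a natural number divisible by `|C(z)|²`. -/
theorem exists_count [Fintype G] {M : Ideal AlgInt} (hM : IsPModular 3 M) [Fintype (IrrCharacter G)]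
    [DecidablePred (· ∈ principalBlock M G)] {y z : G} (hy : ∃ k, orderOf y = 3 ^ k)
    {K : Subgroup (centralizer ({y} : Set G))} [K.Normal] (hK : ¬ 3 ∣ Nat.card K) {k : ℕ}
    (hk : K.index = 3 ^ k) :
    ∃ N : ℕ, Nat.card (centralizer ({z} : Set G)) ^ 2 ∣ N ∧
      (N : ℂ) = (Nat.card K : ℂ) * Nat.card G * ∑ χ ∈ Finset.univ.filter (· ∈ principalBlock M G),
        (χ : G → ℂ) z * (χ : G → ℂ) z / (χ : G → ℂ) 1 * (χ : G → ℂ) y := by
  classical
  haveI := Fact.mk Nat.prime_three
  haveI : M.IsPrime := hM.2.1.isPrime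
  haveI := Fintype.ofFinite (centralizer ({y} : Set G))
  let cnt : G → ℕ := fun g =>
    Nat.card {ab : G × G // (ab.1 * z * ab.1⁻¹) * (ab.2 * z * ab.2⁻¹) = g⁻¹}
  let c : IrrCharacter G → ℂ := fun χ =>
    (Nat.card G : ℂ) * ((χ : G → ℂ) z * (χ : G → ℂ) z / (χ : G → ℂ) 1)
  let θ : G → ℂ := fun g => (cnt g : ℂ)
  have hθ : θ = ∑ χ, c χ • (χ : G → ℂ) := by
    funext g
    show (cnt g : ℂ) = _
    simp only [cnt, c, card_conj_mul_conj, inv_inv, Finset.sum_apply, Pi.smul_apply, smul_eq_mul,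
      Finset.mul_sum]
    exact Finset.sum_congr rfl fun χ _ => by ring
  have hθc : IsClassFunction G θ := fun g h => by
    rw [hθ]
    simp only [Finset.sum_apply, Pi.smul_apply]
    exact Finset.sum_congr rfl fun χ _ => by rw [isClassFunction_irr χ g h]
  have hinner : ∀ χ : IrrCharacter G, classInner θ (χ : G → ℂ) = c χ := by
    intro χ
    rw [hθ, inner_sum_left, Finset.sum_eq_single χ]
    · rw [Chars.inner_smul_left, inner_irr_self, mul_one]
    · intro ψ _ hψ
      rw [Chars.inner_smul_left, inner_irr_ne hψ, mul_zero]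
    · simp
  have h1 : ¬ 3 ∣ orderOf (1 : centralizer ({y} : Set G)) := by simp
  have key := Blocks.blockPart_principalBlock_centralizer hM hθc hy h1
  rw [Subgroup.coe_one, mul_one, Blocks.blockPart_apply_eq_sum] at key
  have hθc' : IsClassFunction (centralizer ({y} : Set G))
      (fun w : centralizer ({y} : Set G) => θ (y * w)) := fun g h => by
    show θ (y * _) = θ (y * _)
    rw [← hθc (y * (g : G)) (h : G)]
    congr 1
    have hh : (h : G) * y = y * (h : G) := mem_centralizer_singleton_iff.1 h.2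
    push_cast
    rw [← mul_assoc (h : G) y, hh]
    simp only [mul_assoc]
  have hcoef : Blocks.avgInd K = blockCoeff (principalBlock M (centralizer ({y} : Set G))) := by
    haveI := irrFintype (centralizer ({y} : Set G))
    refine Blocks.eq_blockCoeff (Blocks.isClassFunction_avgInd K) fun ψ => ?_
    have h := Blocks.mem_principalBlock_iff_of_pow_index hM.2.2 hK hk ψ
    rw [← Blocks.omega_avgInd_eq_one_iff] at h
    rcases Blocks.omega_avgInd_eq_zero_or_one K ψ with h0 | h0
    · rw [h0, if_neg fun hm => zero_ne_one (h0 ▸ h.1 hm)]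
    · rw [h0, if_pos (h.2 h0)]
  rw [Blocks.blockPart_eq_sum _ hθc', ← hcoef] at key
  refine ⟨∑ w ∈ Finset.univ.filter (· ∈ K), cnt (y * (w : G)), Finset.dvd_sum fun w _ => ?_, ?_⟩
  · let C := centralizer ({z} : Set G)
    let S : Set (G × G) := {ab | (ab.1 * z * ab.1⁻¹) * (ab.2 * z * ab.2⁻¹) = (y * (w : G))⁻¹}
    have hC : ∀ (g : G) (u : C), g * (u : G) * z * (g * (u : G))⁻¹ = g * z * g⁻¹ := fun g u => by
      calc g * (u : G) * z * (g * (u : G))⁻¹ = g * ((u : G) * z) * (u : G)⁻¹ * g⁻¹ := by group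
        _ = g * z * g⁻¹ := by rw [mem_centralizer_singleton_iff.1 u.2]; group
    have hS : (QuotientGroup.mk : G × G → (G × G) ⧸ C.prod C) ⁻¹' (QuotientGroup.mk '' S) = S := by
      refine Set.Subset.antisymm ?_ (Set.subset_preimage_image _ _)
      rintro ⟨a, b⟩ ⟨⟨a', b'⟩, hab, he⟩
      have hmem := QuotientGroup.eq.1 he
      obtain ⟨hu, hv⟩ := Subgroup.mem_prod.1 hmem
      have ha : a' * z * a'⁻¹ = a * z * a⁻¹ := by
        rw [← hC a' ⟨_, hu⟩]; simp
      have hb : b' * z * b'⁻¹ = b * z * b⁻¹ := by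
        rw [← hC b' ⟨_, hv⟩]; simp
      show (a * z * a⁻¹) * (b * z * b⁻¹) = _
      rw [← ha, ← hb]
      exact hab
    have hcnt : cnt (y * (w : G)) = Nat.card S := rfl
    rw [hcnt, ← hS, Nat.card_congr (QuotientGroup.preimageMkEquivSubgroupProdSet _ _), Nat.card_prod,
      Nat.card_congr (Subgroup.prodEquiv C C).toEquiv, Nat.card_prod, sq]
    exact dvd_mul_right _ _
  · rw [Nat.cast_sum]
    have hlhs : ∑ χ ∈ Finset.univ.filter (· ∈ principalBlock M G), classInner θ (χ : G → ℂ) * (χ : G → ℂ) y =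
        (Nat.card G : ℂ) * ∑ χ ∈ Finset.univ.filter (· ∈ principalBlock M G),
          (χ : G → ℂ) z * (χ : G → ℂ) z / (χ : G → ℂ) 1 * (χ : G → ℂ) y := by
      rw [Finset.mul_sum]
      exact Finset.sum_congr rfl fun χ _ => by rw [hinner]; simp only [c]; ring
    rw [mul_assoc, ← hlhs, key, Finset.mul_sum, Finset.sum_filter]
    refine Finset.sum_congr rfl fun w _ => ?_
    rw [Blocks.avgInd_apply]
    split_ifs with hw
    · rw [mul_one, ← mul_assoc, mul_inv_cancel₀ (Nat.cast_ne_zero.2 Nat.card_pos.ne'), one_mul]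
    · simp

end CfsgLib.CharsMore.NinePrimes
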