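import Mathlib
import Cfsg.Agent.Lib.Transfer.NormalPComplement
import Cfsg.Agent.Lib.Transfer.Fusion
import Cfsg.Agent.Lib.Chars.Linear
import Cfsg.Agent.Lib.CharApps.PrincipalColumns

/-!
# A Sylow `3`-subgroup of order nine with diagonal four group action: local data

`C(u) = ⟨u⟩ × M`, and the principal block columns on the section of `u` reduce to `M`.
-/

set_option autoImplicit false
set_option linter.style.haveILetI false
set_option linter.unusedSectionVars false

namespace CfsgLib.CharsMore.NinePrimes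

open Cfsg CfsgLib CfsgLib.Chars CfsgLib.CharApps Subgroup
open scoped ComplexConjugate

universe u

variable {G : Type u} [Group G]

/-- `R = ⟨u⟩ × ⟨v⟩` with `gu`, `gv` inverting one factor and fixing the other. -/
structure FourGroup (R : Sylow 3 G) (u v gu gv : G) : Prop where
  card : Nat.card (R : Subgroup G) = 9
  comm : ∀ x ∈ (R : Subgroup G), ∀ y ∈ (R : Subgroup G), x * y = y * x
  hu : orderOf u = 3
  hv : orderOf v = 3
  uR : u ∈ (R : Subgroup G)
  vR : v ∈ (R : Subgroup G)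
  hne : u ∉ zpowers v
  guN : gu ∈ normalizer ((R : Subgroup G) : Set G)
  gu_u : gu * u * gu⁻¹ = u⁻¹
  gu_v : gu * v * gu⁻¹ = v
  gvN : gv ∈ normalizer ((R : Subgroup G) : Set G)
  gv_u : gv * u * gv⁻¹ = u
  gv_v : gv * v * gv⁻¹ = v⁻¹
  act : ∀ n ∈ normalizer ((R : Subgroup G) : Set G),
    (n * u * n⁻¹ = u ∨ n * u * n⁻¹ = u⁻¹) ∧ (n * v * n⁻¹ = v ∨ n * v * n⁻¹ = v⁻¹)

theorem mem_zpowers_three [Finite G] {x y : G} (hx : orderOf x = 3) (hy : y ∈ zpowers x) :
    y = 1 ∨ y = x ∨ y = x⁻¹ := by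
  obtain ⟨n, rfl⟩ := Subgroup.mem_zpowers_iff.1 hy
  have h2 : x⁻¹ = x ^ (2 : ℤ) := by
    refine inv_eq_of_mul_eq_one_right ?_
    rw [← zpow_one_add, show (1 : ℤ) + 2 = ((orderOf x : ℕ) : ℤ) by rw [hx]; rfl, zpow_natCast,
      pow_orderOf_eq_one]
  have hmod : n % ((orderOf x : ℕ) : ℤ) = n % 3 := by rw [hx]; rfl
  rw [← zpow_mod_orderOf, hmod, h2]
  have : n % 3 = 0 ∨ n % 3 = 1 ∨ n % 3 = 2 := by omega
  rcases this with h | h | h <;> rw [h] <;> simp

namespace FourGroup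

variable {R : Sylow 3 G} {u v gu gv : G} (H : FourGroup R u v gu gv)
include H

theorem symm [Finite G] : FourGroup R v u gv gu where
  card := H.card
  comm := H.comm
  hu := H.hv
  hv := H.hu
  uR := H.vR
  vR := H.uR
  hne := fun h => H.hne (by
    rcases mem_zpowers_three H.hu h with e | e | e
    · exact absurd (e ▸ H.hv) (by rw [orderOf_one]; norm_num)
    · rw [e]; exact mem_zpowers u
    · rw [e, zpowers_inv]; exact mem_zpowers u)
  guN := H.gvN
  gu_u := H.gv_v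
  gu_v := H.gv_u
  gvN := H.guN
  gv_u := H.gu_v
  gv_v := H.gu_u
  act := fun n hn => (H.act n hn).symm

theorem u_ne : u ≠ 1 := fun e => H.hne (e ▸ one_mem _)

theorem pElt : ∃ k, orderOf u = 3 ^ k := ⟨1, by rw [pow_one, H.hu]⟩

theorem u_inv_ne : u⁻¹ ≠ u := fun e => by
  have : orderOf u ∣ 2 := orderOf_dvd_of_pow_eq_one (by
    rw [sq]; nth_rewrite 1 [← e]; rw [inv_mul_cancel])
  rw [H.hu] at this
  norm_num at this

variable [Finite G]

theorem decomp {x : G} (hx : x ∈ (R : Subgroup G)) :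
    ∃ a ∈ zpowers u, ∃ b ∈ zpowers v, a * b = x := by
  have hcu : Nat.card (zpowers u) = 3 := by rw [Nat.card_zpowers, H.hu]
  let f : zpowers u × zpowers v → (R : Subgroup G) := fun p =>
    ⟨(p.1 : G) * p.2, mul_mem (zpowers_le.2 H.uR p.1.2) (zpowers_le.2 H.vR p.2.2)⟩
  have hinj : Function.Injective f := by
    rintro ⟨a, b⟩ ⟨a', b'⟩ h
    have h1 : (a : G) * b = a' * b' := congrArg Subtype.val h
    have h2 : (a' : G)⁻¹ * a = (b' : G) * (b : G)⁻¹ := by
      rw [eq_mul_inv_iff_mul_eq, mul_assoc, h1, inv_mul_cancel_left]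
    have h3 : (a' : G)⁻¹ * a ∈ zpowers u := mul_mem (inv_mem a'.2) a.2
    have h4 : (a' : G)⁻¹ * a ∈ zpowers v := h2 ▸ mul_mem b'.2 (inv_mem b.2)
    have h5 : (a' : G)⁻¹ * a = 1 := by
      rcases mem_zpowers_three H.hu h3 with e | e | e
      · exact e
      · exact absurd (e ▸ h4) H.hne
      · exact absurd (by simpa using inv_mem (e ▸ h4 : u⁻¹ ∈ zpowers v)) H.hne
    have ha : a = a' := Subtype.ext (inv_mul_eq_one.1 h5).symm
    subst ha
    exact Prod.ext rfl (Subtype.ext (mul_left_cancel h1))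
  have hbij := (Nat.bijective_iff_injective_and_card f).2
    ⟨hinj, by rw [Nat.card_prod, Nat.card_zpowers, Nat.card_zpowers, H.hu, H.hv, H.card]⟩
  obtain ⟨⟨a, b⟩, hab⟩ := hbij.2 ⟨x, hx⟩
  exact ⟨a, a.2, b, b.2, congrArg Subtype.val hab⟩

theorem span : (R : Subgroup G) = zpowers u ⊔ zpowers v := by
  refine le_antisymm (fun x hx => ?_) (sup_le (zpowers_le.2 H.uR) (zpowers_le.2 H.vR))
  obtain ⟨a, ha, b, hb, rfl⟩ := H.decomp hx
  exact mul_mem (mem_sup_left ha) (mem_sup_right hb)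

theorem centralizes {n : G} (h1 : n * u * n⁻¹ = u) (h2 : n * v * n⁻¹ = v) :
    n ∈ centralizer ((R : Subgroup G) : Set G) := by
  have hle : (R : Subgroup G) ≤ centralizer ({n} : Set G) := by
    rw [H.span]
    refine sup_le (zpowers_le.2 ?_) (zpowers_le.2 ?_) <;> refine mem_centralizer_singleton_iff.2 ?_
    · exact (mul_inv_eq_iff_eq_mul.1 h1).symm
    · exact (mul_inv_eq_iff_eq_mul.1 h2).symm
  exact mem_centralizer_iff.2 fun x hx => mem_centralizer_singleton_iff.1 (hle hx)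

theorem cube {x : G} (hx : x ∈ (R : Subgroup G)) : x ^ 3 = 1 := by
  obtain ⟨a, ha, b, hb, rfl⟩ := H.decomp hx
  rw [(show Commute a b from H.comm a (zpowers_le.2 H.uR ha) b (zpowers_le.2 H.vR hb)).mul_pow,
    orderOf_dvd_iff_pow_eq_one.1 (H.hu ▸ orderOf_dvd_of_mem_zpowers ha),
    orderOf_dvd_iff_pow_eq_one.1 (H.hv ▸ orderOf_dvd_of_mem_zpowers hb), one_mul]

/-- `C(u) = ⟨u⟩ × M`. -/
theorem exists_factor : ∃ (M : Subgroup (centralizer ({u} : Set G)))
    (π : centralizer ({u} : Set G) →* M) (τ : centralizer ({u} : Set G) →* ℂˣ),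
    M.Normal ∧ (∀ c, τ c = 1 ↔ c ∈ M) ∧ (∀ c, τ c ^ 3 = 1) ∧
    (∀ m : M, π (m : centralizer ({u} : Set G)) = m) ∧
    (∀ c : centralizer ({u} : Set G), ∃ i : ℕ, (c : G) = u ^ i * ((π c : centralizer ({u} : Set G)) : G)) ∧
    (∀ c, ¬ 3 ∣ orderOf c → c ∈ M) ∧
    (⟨v, mem_centralizer_singleton_iff.2 (H.comm v H.vR u H.uR)⟩ : centralizer ({u} : Set G)) ∈ M ∧
    τ (⟨u, mem_centralizer_singleton_iff.2 rfl⟩) ≠ 1 := by
  classical
  haveI := Fact.mk Nat.prime_three
  obtain ⟨C, hC⟩ : ∃ C, C = centralizer ({u} : Set G) := ⟨_, rfl⟩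
  subst hC
  have hle : (R : Subgroup G) ≤ centralizer ({u} : Set G) := fun x hx =>
    mem_centralizer_singleton_iff.2 (H.comm x hx u H.uR)
  let P : Sylow 3 (centralizer ({u} : Set G)) := R.subtype hle
  letI : CommGroup (P : Subgroup (centralizer ({u} : Set G))) :=
    { (inferInstance : Group (P : Subgroup (centralizer ({u} : Set G)))) with
      mul_comm := fun a b => Subtype.ext (Subtype.ext (H.comm a.1.1
        (by have := a.2; simpa [P, Sylow.coe_subtype, mem_subgroupOf] using this) b.1.1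
        (by have := b.2; simpa [P, Sylow.coe_subtype, mem_subgroupOf] using this))) }
  let uC : centralizer ({u} : Set G) := ⟨u, mem_centralizer_singleton_iff.2 rfl⟩
  have huP : uC ∈ (P : Subgroup (centralizer ({u} : Set G))) := by
    simpa [P, uC, Sylow.coe_subtype, mem_subgroupOf] using H.uR
  have hP3 : ∀ a : (P : Subgroup (centralizer ({u} : Set G))), a ^ 3 = 1 := fun a =>
    Subtype.ext (Subtype.ext (by
      push_cast
      exact H.cube (by have := a.2; simpa [P, Sylow.coe_subtype, mem_subgroupOf] using this)))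
  haveI : NeZero (Monoid.exponent (P : Subgroup (centralizer ({u} : Set G))) : ℂ) :=
    ⟨Nat.cast_ne_zero.mpr Monoid.exponent_ne_zero_of_finite⟩
  obtain ⟨ψ, hψ⟩ := CommGroup.exists_apply_ne_one_of_hasEnoughRootsOfUnity
    (P : Subgroup (centralizer ({u} : Set G))) ℂ (a := ⟨uC, huP⟩)
    (fun e => H.u_ne (congrArg (fun z : (P : Subgroup (centralizer ({u} : Set G))) => (z.1 : G)) e))
  let ψ' : (P : Subgroup (centralizer ({u} : Set G))) →* rootsOfUnity 3 ℂ :=
    ψ.codRestrict _ fun a => by rw [mem_rootsOfUnity, ← map_pow, hP3, map_one]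
  let τ : centralizer ({u} : Set G) →* ℂˣ :=
    (rootsOfUnity 3 ℂ).subtype.comp (MonoidHom.transfer ψ')
  have hτ3 : ∀ c, τ c ^ 3 = 1 := fun c => (mem_rootsOfUnity _ _).1 (MonoidHom.transfer ψ' c).2
  have hcen : ∀ c : centralizer ({u} : Set G), c * uC = uC * c := fun c =>
    Subtype.ext (mem_centralizer_singleton_iff.1 c.2)
  have key : ∀ (k : ℕ) (g₀ : centralizer ({u} : Set G)),
      g₀⁻¹ * uC ^ k * g₀ ∈ (P : Subgroup (centralizer ({u} : Set G))) →
        g₀⁻¹ * uC ^ k * g₀ = uC ^ k := fun k g₀ _ => by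
    rw [mul_assoc, ← (show Commute g₀ (uC ^ k) from Commute.pow_right (hcen g₀) k).eq,
      inv_mul_cancel_left]
  have hτu : τ uC ≠ 1 := by
    intro h
    simp only [τ, MonoidHom.comp_apply, MonoidHom.transfer_eq_pow ψ' uC key] at h
    have h' : ψ ⟨uC, huP⟩ ^ (P : Subgroup (centralizer ({u} : Set G))).index = 1 := by
      rw [← map_pow]
      simpa [ψ'] using h
    have h3 : ψ ⟨uC, huP⟩ ^ 3 = 1 := by rw [← map_pow, hP3, map_one]
    refine hψ (orderOf_eq_one_iff.1 (Nat.eq_one_of_dvd_coprimes ?_ (orderOf_dvd_of_pow_eq_one h3)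
      (orderOf_dvd_of_pow_eq_one h')))
    exact Nat.prime_three.coprime_iff_not_dvd.2 P.not_dvd_index
  have hω : IsPrimitiveRoot (τ uC) 3 := by
    rw [IsPrimitiveRoot.iff_orderOf]
    exact orderOf_eq_prime (hτ3 uC) hτu
  have hex : ∀ c, ∃ i : ℕ, i < 3 ∧ τ uC ^ i = τ c := fun c =>
    hω.eq_pow_of_mem_rootsOfUnity ((mem_rootsOfUnity _ _).2 (hτ3 c))
  choose i hi hτi using hex
  have hmem : ∀ c, c * (uC ^ i c)⁻¹ ∈ τ.ker := fun c => by
    rw [MonoidHom.mem_ker, map_mul, map_inv, map_pow, hτi, mul_inv_cancel]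
  have hpows : ∀ k : ℕ, uC ^ k ∈ τ.ker → uC ^ k = 1 := fun k hk => by
    rw [MonoidHom.mem_ker, map_pow, hω.pow_eq_one_iff_dvd] at hk
    obtain ⟨j, rfl⟩ := hk
    rw [pow_mul, show uC ^ 3 = 1 from Subtype.ext (by push_cast; exact H.cube H.uR), one_pow]
  have huniq : ∀ (c m : centralizer ({u} : Set G)) (k : ℕ), m ∈ τ.ker → c = uC ^ k * m →
      c * (uC ^ i c)⁻¹ = m := fun c m k hm e => by
    have h1 : τ uC ^ i c = τ uC ^ k := by
      rw [hτi, e, map_mul, map_pow, MonoidHom.mem_ker.1 hm, mul_one]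
    have h2 : uC ^ i c = uC ^ k := by
      have hu3 : orderOf uC = 3 := by
        rw [← Subgroup.orderOf_coe]; exact H.hu
      rw [pow_eq_pow_iff_modEq, hu3]
      have h3 := pow_eq_pow_iff_modEq.1 h1
      rwa [← IsPrimitiveRoot.iff_orderOf.1 hω] 
    rw [h2, e, (show Commute m (uC ^ k) from Commute.pow_right (hcen m) k).symm.eq,
      mul_inv_cancel_right]
  let π : centralizer ({u} : Set G) →* τ.ker := MonoidHom.mk' (fun c => ⟨_, hmem c⟩) fun a b =>
    Subtype.ext (huniq (a * b) (a * (uC ^ i a)⁻¹ * (b * (uC ^ i b)⁻¹)) (i a + i b)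
      (mul_mem (hmem a) (hmem b)) (by
        have ca : Commute (uC ^ i a) a := (Commute.pow_right (hcen a) _).symm
        have cb : Commute (uC ^ i b) b := (Commute.pow_right (hcen b) _).symm
        have cab : Commute (uC ^ i b) a := (Commute.pow_right (hcen a) _).symm
        rw [ca.inv_left.symm.eq, cb.inv_left.symm.eq, pow_add]
        calc a * b = uC ^ i a * ((uC ^ i b * (uC ^ i a)⁻¹) * a) * ((uC ^ i b)⁻¹ * b) := by
              rw [(show Commute (uC ^ i b) (uC ^ i a)⁻¹ from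
                ((Commute.refl uC).pow_pow _ _).inv_right).eq, mul_assoc (uC ^ i a)⁻¹, cab.eq]
              group
          _ = _ := by group))
  refine ⟨τ.ker, π, τ, inferInstance, fun c => (MonoidHom.mem_ker (f := τ)).symm, hτ3,
    fun m => Subtype.ext (huniq _ _ 0 m.2 (by simp)), fun c => ⟨i c, ?_⟩, fun c hc => ?_, ?_, hτu⟩
  · have h := congrArg Subtype.val
      ((show Commute c (uC ^ i c)⁻¹ from (Commute.pow_right (hcen c) _).inv_right).eq)
    show (c : G) = u ^ i c * ((c * (uC ^ i c)⁻¹ : centralizer ({u} : Set G)) : G)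
    rw [show ((c * (uC ^ i c)⁻¹ : centralizer ({u} : Set G)) : G) =
      (((uC ^ i c)⁻¹ * c : centralizer ({u} : Set G)) : G) from h]
    push_cast
    exact (mul_inv_cancel_left _ _).symm
  · rw [MonoidHom.mem_ker, ← orderOf_eq_one_iff]
    refine Nat.eq_one_of_dvd_coprimes ?_ (orderOf_dvd_of_pow_eq_one (hτ3 c)) (orderOf_map_dvd τ c)
    exact Nat.prime_three.coprime_iff_not_dvd.2 hc
  · -- `v` is inverted by an element of `C(u)`
    let gC : centralizer ({u} : Set G) :=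
      ⟨gv, mem_centralizer_singleton_iff.2 (mul_inv_eq_iff_eq_mul.1 H.gv_u)⟩
    obtain ⟨vC, hvC⟩ : ∃ vC : centralizer ({u} : Set G),
        vC = ⟨v, mem_centralizer_singleton_iff.2 (H.comm v H.vR u H.uR)⟩ := ⟨_, rfl⟩
    rw [← hvC, MonoidHom.mem_ker]
    have h1 : gC * vC * gC⁻¹ = vC⁻¹ := Subtype.ext (by subst hvC; exact H.gv_v)
    have h2 := congrArg τ h1
    rw [map_mul, map_mul, map_inv, map_inv, mul_comm (τ gC), mul_inv_cancel_right] at h2
    have h4 : τ vC * τ vC = 1 := mul_eq_one_iff_eq_inv.2 h2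
    calc τ vC = τ vC ^ 3 := by rw [pow_succ, sq, h4, one_mul]
      _ = 1 := hτ3 vC

end FourGroup

end CfsgLib.CharsMore.NinePrimes
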