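import Mathlib
import Cfsg.Agent.S4441
import Cfsg.Agent.S0976
import Cfsg.Agent.Lib.Blocks.ThreePrimeSimple
import Cfsg.Agent.Lib.Small.Count
import Cfsg.Agent.Lib.CharsMore.NinePrimes.Arith
import Cfsg.Agent.Lib.CharsMore.NinePrimes.Block

/-!
# Simple groups of order `9 · 2^a q^b` with inverted Sylow `3`-subgroup

The degree `q` forces `b = 1`; a rational character bounds the `2`-part of the complement in the
centralizer of an element of order three, and with it `a`.
-/

set_option autoImplicit false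
set_option linter.style.haveILetI false
set_option linter.unusedSectionVars false

namespace CfsgLib.CharsMore.NinePrimes

open Cfsg CfsgLib CfsgLib.Chars CfsgLib.CharApps Subgroup
open scoped ComplexConjugate

universe u

variable {G : Type u} [Group G] [Fintype G]

/-- The fixed part of a character under an element of order three, on a commuting subgroup. -/
theorem exists_fixed_part {χ : IrrCharacter G} {y : G} (hy : orderOf y = 3) {H : Subgroup G}
    [Fintype H] (hH : ∀ h ∈ H, Commute h y) {c : ℂ}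
    (hc : ∀ h ∈ H, (χ : G → ℂ) (y * h) = c ∧ (χ : G → ℂ) (y ^ 2 * h) = c) :
    IsCharacter H (fun h : H => ((χ : G → ℂ) h + 2 * c) / 3) := by
  classical
  haveI := Fintype.ofFinite (zpowers y)
  let φ : H × zpowers y →* G := MonoidHom.noncommCoprod H.subtype (zpowers y).subtype fun h w => by
    obtain ⟨i, hi⟩ := Subgroup.mem_zpowers_iff.1 w.2
    show Commute (h : G) (w : G)
    rw [← hi]
    exact (hH h h.2).zpow_right i
  have hres := isCharacter_comp φ (isCharacter_of_irr χ.2)
  have hsum : ∀ h : H, ∑ w : zpowers y, (χ : G → ℂ) ((h : G) * w) = (χ : G → ℂ) h + 2 * c := by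
    intro h
    have h1 : ∑ w : zpowers y, (χ : G → ℂ) ((h : G) * w) =
        ∑ t ∈ Finset.range (orderOf y), (χ : G → ℂ) ((h : G) * y ^ t) := by
      rw [← Fin.sum_univ_eq_sum_range (fun t => (χ : G → ℂ) ((h : G) * y ^ t))]
      exact (Fintype.sum_equiv (finEquivZPowers (isOfFinOrder_of_finite y)) _ _ fun i => by
        rw [finEquivZPowers_apply]).symm
    rw [h1, hy, Finset.sum_range_succ, Finset.sum_range_succ, Finset.sum_range_one, pow_zero,
      mul_one, pow_one, (hH h h.2).eq, ((hH h h.2).pow_right 2).eq, (hc h h.2).1, (hc h h.2).2]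
    ring
  refine isCharacter_iff_inner.2 ⟨fun g k => ?_, fun θ => ?_⟩
  · show ((χ : G → ℂ) _ + _) / 3 = ((χ : G → ℂ) _ + _) / 3
    rw [Subgroup.coe_mul, Subgroup.coe_mul, InvMemClass.coe_inv, isClassFunction_irr χ]
  obtain ⟨m, hm⟩ := inner_char_nat hres (isCharacter_comp (MonoidHom.fst H (zpowers y))
    (isCharacter_of_irr θ.2))
  refine ⟨m, ?_⟩
  rw [← hm, inner_def, inner_def, Fintype.sum_prod_type, Nat.card_prod, Nat.card_zpowers, hy,
    Nat.cast_mul, mul_inv, mul_assoc]
  congr 1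
  rw [Finset.mul_sum]
  refine Finset.sum_congr rfl fun h _ => ?_
  rw [← hsum h, Finset.sum_div, Finset.sum_mul, Finset.mul_sum]
  refine Finset.sum_congr rfl fun w _ => ?_
  show _ = _ * ((χ : G → ℂ) (φ (h, w)) * conj ((θ : H → ℂ) h))
  rw [MonoidHom.noncommCoprod_apply]
  simp only [Subgroup.coe_subtype, Nat.cast_ofNat]
  ring

/-- A rational character bounds the `2`-part of a subgroup centralizing `y`. -/
theorem two_part_le {χ : IrrCharacter G}
    (hfaith : ∀ g : G, (χ : G → ℂ) g = (χ : G → ℂ) 1 → g = 1)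
    (hrat : ∀ g : G, (∃ k, orderOf g = 2 ^ k) → ∀ τ : ℂ ≃+* ℂ, τ ((χ : G → ℂ) g) = (χ : G → ℂ) g)
    {y : G} (hy : orderOf y = 3) (K : Subgroup (centralizer ({y} : Set G))) {c : ℂ}
    (hc : ∀ h : G, Commute h y → ¬ 3 ∣ orderOf h →
      (χ : G → ℂ) (y * h) = c ∧ (χ : G → ℂ) (y ^ 2 * h) = c)
    {n : ℕ} (hn : (χ : G → ℂ) 1 + 2 * c = 3 * n) :
    (Nat.card K).factorization 2 ≤ ∑ i ∈ Finset.range (n + 1), n / ((2 - 1) * 2 ^ i) := by
  haveI := Fact.mk Nat.prime_two
  obtain ⟨P⟩ := (inferInstance : Nonempty (Sylow 2 K))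
  let H : Subgroup G := ((P : Subgroup K).map K.subtype).map (centralizer ({y} : Set G)).subtype
  have hcard : Nat.card H = 2 ^ (Nat.card K).factorization 2 := by
    simp only [H]
    rw [Subgroup.card_map_of_injective (centralizer ({y} : Set G)).subtype_injective,
      Subgroup.card_map_of_injective K.subtype_injective, P.card_eq_multiplicity]
  haveI := Fintype.ofFinite H
  have hH2 : IsPGroup 2 H := IsPGroup.of_card hcard
  have hcomm : ∀ h ∈ H, Commute h y := by
    rintro _ ⟨c, -, rfl⟩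
    exact mem_centralizer_singleton_iff.1 c.2
  have hord : ∀ h ∈ H, ∃ k, orderOf h = 2 ^ k := fun h hh => by
    obtain ⟨k, hk⟩ := IsPGroup.iff_orderOf.1 hH2 ⟨h, hh⟩
    exact ⟨k, by rwa [Subgroup.orderOf_mk] at hk⟩
  have hU := exists_fixed_part hy hcomm fun h hh => hc h (hcomm h hh) (by
    obtain ⟨k, hk⟩ := hord h hh
    rw [hk]
    exact fun h3 => absurd (Nat.prime_three.dvd_of_dvd_pow h3) (by norm_num))
  have h := SchurBound.factorization_le (p := 2) hH2 hU (n := n) (by
    show ((χ : G → ℂ) ((1 : H) : G) + 2 * c) / 3 = _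
    rw [OneMemClass.coe_one, hn]; ring) (fun g hg => Subtype.ext (hfaith g (by
      simp only [OneMemClass.coe_one] at hg
      linear_combination 3 * hg))) (fun g t ht => by
      obtain ⟨k, hk⟩ := hord g g.2
      haveI : NeZero (orderOf (g : G)) := ⟨(orderOf_pos _).ne'⟩
      have hcop : t.Coprime (orderOf (g : G)) := by
        rw [hk]
        exact Nat.Coprime.pow_right _ ((Nat.prime_two.coprime_iff_not_dvd.2 ht).symm)
      obtain ⟨τ, hτ⟩ := exists_galois_pow _ hcop
      show ((χ : G → ℂ) ((g : G) ^ t) + 2 * c) / 3 = _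
      rw [← galois_apply τ hτ (isCharacter_of_irr χ.2) _ (pow_orderOf_eq_one _),
        hrat _ ⟨k, hk⟩])
  rwa [hcard, Nat.prime_two.factorization_pow, Finsupp.single_eq_same] at h

/-- The principal block at `q`: nonprincipal nonexceptional degrees are even, exceptional ones
`3` or `9`. -/
theorem prime_block [IsSimpleGroup G] (hG : ¬ IsMulCommutative G) {q a : ℕ} [Fact q.Prime]
    (hq17 : 17 ≤ q) (hcard : Nat.card G = 9 * 2 ^ a * q) {M : Ideal AlgInt} (hM : IsPModular q M)
    (Q : Sylow q G) (hQ : Nat.card (Q : Subgroup G) = q) :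
    ∃ e θd : ℕ, 1 < e ∧ e ∣ q - 1 ∧
      Nat.card (centralizer ((Q : Subgroup G) : Set G)) * e =
        Nat.card (normalizer ((Q : Subgroup G) : Set G)) ∧
      (θd = 3 ∨ θd = 9) ∧ ((q : ℤ) ∣ (θd : ℤ) - e ∨ (q : ℤ) ∣ (θd : ℤ) + e) ∧
      ∃ θ : IrrCharacter G, θ ≠ principal G ∧ charDegree (θ : G → ℂ) = θd ∧
        (∀ g : G, ¬ q ∣ orderOf g → ∀ τ : ℂ ≃+* ℂ, τ ((θ : G → ℂ) g) = (θ : G → ℂ) g) ∧
        ((∀ d : ℕ, 2 ≤ d → d ∣ 9 * 2 ^ a → ∀ ε : ℤ, (ε = 1 ∨ ε = -1) → (q : ℤ) ∣ (d : ℤ) - ε →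
          ε = 1) → q + 1 < θd) := by
  classical
  haveI : M.IsPrime := hM.2.1.isPrime
  haveI := irrFintype G
  have hq : q.Prime := Fact.out
  obtain ⟨e, he1, hedvd, hen⟩ := Small.exists_normalizer_centralizer hG Q hQ
  have herel : (centralizer ((Q : Subgroup G) : Set G)).relIndex
      (normalizer ((Q : Subgroup G) : Set G)) = e := by
    refine Nat.eq_of_mul_eq_mul_left (Nat.card_pos (α := centralizer ((Q : Subgroup G) : Set G))) ?_
    rw [hen, ← relIndex_bot_left (centralizer ((Q : Subgroup G) : Set G)),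
      relIndex_mul_relIndex _ _ _ bot_le (centralizer_le_normalizer _), relIndex_bot_left]
  obtain ⟨X, Y, hB, hdisj, hXc, hYc, εX, ε, hXv, hε, hYmod, hYreg, hrel⟩ :=
    Agent.S4441.result q M hM (by omega) Q hQ e herel
  have hq9 : ∀ d : ℕ, d ∣ 9 * 2 ^ a → d % 2 = 1 → d = 1 ∨ d = 3 ∨ d = 9 := by
    intro d hd hodd
    have hd' : d ∣ 9 := (((Nat.prime_two.coprime_iff_not_dvd.2 fun h => by omega).symm).pow_right a
      ).dvd_of_dvd_mul_right hd
    have := Nat.le_of_dvd (by norm_num) hd'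
    interval_cases d <;> omega
  have hprime : ∀ d : ℕ, d ∣ Nat.card G → ¬ q ∣ d → d ∣ 9 * 2 ^ a := fun d hd hqd => by
    rw [hcard] at hd
    exact ((hq.coprime_iff_not_dvd.2 hqd).symm).dvd_of_dvd_mul_right hd
  have hXdeg : ∀ χ ∈ X, χ ≠ principal G → charDegree (χ : G → ℂ) % 2 = 0 ∧
      2 ≤ charDegree (χ : G → ℂ) ∧ charDegree (χ : G → ℂ) ∣ 9 * 2 ^ a := by
    intro χ hχ hne
    obtain ⟨hpm, hmod, -⟩ := hXv χ hχ
    have h2 := Small.one_lt_charDegree hG hne
    have hdiv := (Int.modEq_iff_dvd.1 hmod.symm)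
    have hqd : ¬ q ∣ charDegree (χ : G → ℂ) := fun h => by
      have h1 : (q : ℤ) ∣ εX χ := by
        have := dvd_sub (Int.natCast_dvd_natCast.2 h) hdiv
        simpa using this
      rcases hpm with h' | h' <;> rw [h'] at h1
      · have := Int.le_of_dvd one_pos h1; omega
      · have := Int.le_of_dvd one_pos (dvd_neg.1 h1); omega
    have hd9 := hprime _ (Small.charDegree_dvd_card χ) hqd
    refine ⟨?_, h2, hd9⟩
    by_contra hodd
    obtain ⟨c, hc⟩ := hdiv
    have hsmall : (charDegree (χ : G → ℂ) : ℤ) - εX χ ≠ 0 ∧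
        (charDegree (χ : G → ℂ) : ℤ) - εX χ < q ∧ -(q : ℤ) < (charDegree (χ : G → ℂ) : ℤ) - εX χ := by
      rcases hq9 _ hd9 (by omega) with h' | h' | h' <;> rcases hpm with h'' | h'' <;> omega
    rcases lt_trichotomy c 0 with h | h | h
    · nlinarith
    · rw [h, mul_zero] at hc; exact hsmall.1 hc
    · nlinarith
  have hp : principal G ∈ principalBlock M G := Blocks.principal_mem_principalBlock M
  have hpd : charDegree (principal G : G → ℂ) = 1 :=
    (CharApps.deg_eq_one_iff (principal G)).mp (principal_apply 1)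
  obtain ⟨θ, hθ⟩ : Y.Nonempty := Set.nonempty_of_ncard_ne_zero (by
    rw [← Nat.card_coe_set_eq, hYc]
    exact (Nat.div_pos (Nat.le_of_dvd (by omega) hedvd) (by omega)).ne')
  have h1reg : ¬ q ∣ orderOf (1 : G) := by simp [hq.ne_one]
  have hYdeg : ∀ η ∈ Y, charDegree (η : G → ℂ) = charDegree (θ : G → ℂ) := fun η hη => by
    have h := hYreg η hη θ hθ 1 h1reg
    rw [CharApps.deg_eq, CharApps.deg_eq] at h
    exact_mod_cast h
  have hsum : ε * (charDegree (θ : G → ℂ) : ℤ) =
      ∑ χ ∈ (Set.toFinite X).toFinset, εX χ * (charDegree (χ : G → ℂ) : ℤ) := by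
    have h := hrel θ hθ 1 h1reg
    rw [finsum_mem_eq_finite_toFinset_sum _ (Set.toFinite X), CharApps.deg_eq,
      Finset.sum_congr rfl fun χ _ => by rw [CharApps.deg_eq]] at h
    exact_mod_cast h
  have hpX : principal G ∈ X := by
    by_contra hpX
    have h2 : (∑ χ ∈ (Set.toFinite X).toFinset, εX χ * (charDegree (χ : G → ℂ) : ℤ)) % 2 = 0 := by
      refine Int.emod_eq_zero_of_dvd (Finset.dvd_sum fun χ hχ => ?_)
      rw [Set.Finite.mem_toFinset] at hχ
      have := (hXdeg χ hχ (fun e => hpX (e ▸ hχ))).1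
      exact dvd_mul_of_dvd_right (by omega) _
    have h1 := hYdeg _ ((hB ▸ hp).resolve_left hpX)
    rw [hpd] at h1
    rw [← h1] at hsum
    rcases hε with rfl | rfl <;> omega
  have hεp : εX (principal G) = 1 := by
    obtain ⟨hpm, hmod, -⟩ := hXv _ hpX
    rw [hpd] at hmod
    rcases hpm with h | h
    · exact h
    · rw [h] at hmod
      have := Int.le_of_dvd (by norm_num) (Int.modEq_iff_dvd.1 hmod.symm)
      omega
  obtain ⟨T, hT⟩ : ∃ T, T = (Set.toFinite X).toFinset.erase (principal G) := ⟨_, rfl⟩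
  rw [← Finset.add_sum_erase _ _ ((Set.toFinite X).mem_toFinset.2 hpX), ← hT, hεp, hpd] at hsum
  have hTmem : ∀ χ ∈ T, χ ∈ X ∧ χ ≠ principal G := fun χ hχ => by
    rw [hT] at hχ
    simp only [Finset.mem_erase, Set.Finite.mem_toFinset] at hχ
    exact ⟨hχ.2, hχ.1⟩
  have hθodd : charDegree (θ : G → ℂ) % 2 = 1 := by
    have h2 : (∑ χ ∈ T, εX χ * (charDegree (χ : G → ℂ) : ℤ)) % 2 = 0 :=
      Int.emod_eq_zero_of_dvd (Finset.dvd_sum fun χ hχ => by
        have := (hXdeg χ (hTmem χ hχ).1 (hTmem χ hχ).2).1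
        exact dvd_mul_of_dvd_right (by omega) _)
    rcases hε with rfl | rfl <;> omega
  have hθne : θ ≠ principal G := fun e => Set.disjoint_left.1 hdisj hpX (e ▸ hθ)
  have hele : e ≤ q - 1 := Nat.le_of_dvd (by omega) hedvd
  have hθmod : (q : ℤ) ∣ (charDegree (θ : G → ℂ) : ℤ) - e ∨
      (q : ℤ) ∣ (charDegree (θ : G → ℂ) : ℤ) + e := by
    have h := Int.modEq_iff_dvd.1 (hYmod θ hθ).symm
    rcases hε with h' | h' <;> rw [h'] at h
    · exact Or.inl (by simpa using h)
    · exact Or.inr (by simpa using h)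
  have hθ9 : charDegree (θ : G → ℂ) = 3 ∨ charDegree (θ : G → ℂ) = 9 := by
    have hqd : ¬ q ∣ charDegree (θ : G → ℂ) := fun h => by
      have h1 : (q : ℤ) ∣ (e : ℤ) := by
        rcases hθmod with h' | h'
        · simpa using dvd_sub (Int.natCast_dvd_natCast.2 h) h'
        · simpa using dvd_sub h' (Int.natCast_dvd_natCast.2 h)
      have := Nat.le_of_dvd (by omega) (Int.natCast_dvd_natCast.1 h1)
      omega
    rcases hq9 _ (hprime _ (Small.charDegree_dvd_card θ) hqd) hθodd with h | h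
    · have := Small.one_lt_charDegree hG hθne; omega
    · exact h
  refine ⟨e, _, he1, hedvd, hen, hθ9, hθmod, θ, hθne, rfl, fun g hg τ => ?_, fun hpos => ?_⟩
  · have hmem : galoisIrr τ θ ∈ principalBlock M G :=
      (galoisIrr_mem_principalBlock (p := q) hM.2.2 τ θ).2 (hB ▸ Or.inr hθ)
    have hdeg : charDegree (galoisIrr τ θ : G → ℂ) = charDegree (θ : G → ℂ) := by
      apply Nat.cast_injective (R := ℂ)
      rw [← CharApps.deg_eq, ← CharApps.deg_eq, galoisIrr_apply, CharApps.deg_eq, map_natCast]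
    rw [← galoisIrr_apply]
    rw [hB] at hmem
    rcases hmem with h | h
    · exfalso
      by_cases hgp : galoisIrr τ θ = principal G
      · rw [hgp, hpd] at hdeg; omega
      · have := (hXdeg _ h hgp).1; omega
    · exact hYreg _ h θ hθ g hg
  · -- all signs are positive
    obtain ⟨χ, hχ⟩ : T.Nonempty := by
      refine Finset.card_pos.1 ?_
      rw [hT, Finset.card_erase_of_mem ((Set.toFinite X).mem_toFinset.2 hpX),
        ← Nat.card_eq_card_finite_toFinset, hXc]
      omega
    have hpos' : ∀ ψ ∈ T, εX ψ = 1 ∧ (q : ℤ) + 1 ≤ εX ψ * (charDegree (ψ : G → ℂ) : ℤ) := by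
      intro ψ hψ
      obtain ⟨-, h2, hd⟩ := hXdeg ψ (hTmem ψ hψ).1 (hTmem ψ hψ).2
      obtain ⟨hpm, hmod, -⟩ := hXv ψ (hTmem ψ hψ).1
      have h := Int.modEq_iff_dvd.1 hmod.symm
      have h1 := hpos _ h2 hd _ hpm h
      refine ⟨h1, ?_⟩
      rw [h1] at h ⊢
      have := Int.le_of_dvd (by omega) h
      omega
    have hle := Finset.single_le_sum (f := fun ψ => εX ψ * (charDegree (ψ : G → ℂ) : ℤ))
      (fun ψ hψ => le_trans (by omega) (hpos' ψ hψ).2) hχ
    have := (hpos' χ hχ).2
    rcases hε with rfl | rfl <;> omega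

variable [IsSimpleGroup G]

theorem schur_one (hG : ¬ IsMulCommutative G) {q a b : ℕ} (hq : q.Prime) (hq2 : q ≠ 2) (hq3 : q ≠ 3)
    (hcard : Nat.card G = 9 * 2 ^ a * q ^ b) {f : IrrCharacter G}
    (hne : f ≠ principal G) (hrat : ∀ τ : ℂ ≃+* ℂ, galoisIrr τ f = f)
    (hn : charDegree (f : G → ℂ) = q ∨ (q = 7 ∧ charDegree (f : G → ℂ) = 8)) : b ≤ 1 := by
  have h := NineTI.factorization_le_of_rational f hrat (SmallTriple.faithful hG hne) hq
  have hb : (Nat.card G).factorization q = b := by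
    have h2 : ¬ q ∣ 9 * 2 ^ a := fun h' => by
      rcases hq.dvd_mul.1 h' with h' | h'
      · exact hq3 ((Nat.prime_dvd_prime_iff_eq hq Nat.prime_three).1
          (hq.dvd_of_dvd_pow (show q ∣ 3 ^ 2 from h')))
      · exact hq2 ((Nat.prime_dvd_prime_iff_eq hq Nat.prime_two).1 (hq.dvd_of_dvd_pow h'))
    rw [hcard, Nat.factorization_mul (by positivity) (pow_ne_zero _ hq.ne_zero), Finsupp.add_apply,
      Nat.factorization_eq_zero_of_not_dvd h2, hq.factorization_pow, Finsupp.single_eq_same,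
      zero_add]
  rw [hb] at h
  refine h.trans ?_
  rcases hn with hn | ⟨rfl, hn⟩ <;> rw [hn]
  · have hq5 : 3 ≤ q := by have := hq.two_le; omega
    rw [Finset.sum_range_succ' _ q, pow_zero, mul_one, Finset.sum_eq_zero fun i _ => ?_, zero_add]
    · exact (Nat.div_le_iff_le_mul_add_pred (by omega)).2 (by omega)
    · refine Nat.div_eq_of_lt ?_
      calc q = 1 * q := (one_mul q).symm
        _ < (q - 1) * q := Nat.mul_lt_mul_of_pos_right (by omega) hq.pos
        _ ≤ (q - 1) * q ^ (i + 1) := Nat.mul_le_mul_left _ (Nat.le_self_pow (by omega) q)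
  · decide

/-- The two groups. -/
theorem card_of_inverted (hG : ¬ IsMulCommutative G) {q a b : ℕ} (hq : q.Prime) (hq2 : q ≠ 2)
    (hq3 : q ≠ 3) (hcard : Nat.card G = 9 * 2 ^ a * q ^ b) {R : Sylow 3 G} (H : Inverted R) :
    Nat.card G = 504 ∨ Nat.card G = 2448 := by
  classical
  haveI := Fact.mk Nat.prime_three
  haveI := Fact.mk Nat.prime_two
  haveI := irrFintype G
  obtain ⟨M, hM⟩ := exists_pModular 3
  haveI : M.IsPrime := hM.2.1.isPrime
  obtain ⟨B⟩ := exists_block hM H
  have hdvd : ∀ χ : IrrCharacter G, charDegree (χ : G → ℂ) ∣ 9 * 2 ^ a * q ^ b := fun χ =>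
    hcard ▸ Small.charDegree_dvd_card χ
  obtain ⟨η₀, hη₀⟩ := B.nonempty
  have hf2 := Small.one_lt_charDegree hG B.ne
  have hx2 : 2 ≤ B.x := B.Y_deg η₀ hη₀ ▸ Small.one_lt_charDegree hG (B.Y_ne η₀ hη₀).1
  have hf3 : ¬ 3 ∣ charDegree (B.f : G → ℂ) := fun h => by
    have := B.f_mod
    rcases B.hσ with h' | h' <;> omega
  have hx3 : ¬ 3 ∣ B.x := fun h => by
    have h1 := B.f_mod
    have h2 := B.rel
    rcases B.hσ with h' | h' <;> rw [h'] at h1 h2 <;> rcases B.hδ with h'' | h'' <;>
      rw [h''] at h2 <;> omega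
  have hcases := degree_cases hq hq2 hq3 (hdvd B.f) (B.Y_deg η₀ hη₀ ▸ hdvd η₀) hf3 hx3 hf2 hx2
    B.hσ B.hδ B.rel B.f_mod
  have hfx : charDegree (B.f : G → ℂ) ≠ B.x := by
    have h2 := B.rel
    rcases B.hσ with h' | h' <;> rw [h'] at h2 <;> rcases B.hδ with h'' | h'' <;>
      rw [h''] at h2 <;> omega
  have hrat : ∀ τ : ℂ ≃+* ℂ, galoisIrr τ B.f = B.f :=
    SmallTriple.rational_of_unique hM B.mem fun ψ hψ e => by
      rcases (B.block ψ).1 hψ with rfl | rfl | h
      · rw [(CharApps.deg_eq_one_iff (principal G)).mp (principal_apply 1)] at e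
        omega
      · rfl
      · exact absurd (e.symm.trans (B.Y_deg ψ h)) hfx
  have hb : b = 1 := by
    refine le_antisymm (schur_one hG hq hq2 hq3 hcard B.ne hrat ?_) ?_
    · rcases hcases with ⟨h, -, h7, -⟩ | ⟨i, h, -⟩
      · exact Or.inr ⟨h7, h⟩
      · exact Or.inl h
    · by_contra hb0
      obtain rfl : b = 0 := by omega
      exact SmallTriple.two_primes_false hG Nat.prime_three Nat.prime_two (i := 2) (j := a)
        (by rw [hcard, pow_zero, mul_one]; norm_num)
  subst hb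
  rw [pow_one] at hcard
  -- the element of order three and the involution
  obtain ⟨y, hy⟩ := exists_prime_orderOf_dvd_card' (G := (R : Subgroup G)) 3 (by rw [H.card]; norm_num)
  have hyR : (y : G) ∈ (R : Subgroup G) := y.2
  have hy3 : orderOf (y : G) = 3 := by rw [Subgroup.orderOf_coe, hy]
  have hy1 : (y : G) ≠ 1 := fun e => by rw [e, orderOf_one] at hy3; omega
  have hy21 : (y : G) ^ 2 ≠ 1 := fun e => by
    have := Nat.le_of_dvd (by norm_num) (orderOf_dvd_of_pow_eq_one e); omega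
  obtain ⟨K, k, hKn, hK, hk⟩ := H.exists_complement hyR hy1
  have ha1 : 1 ≤ a := by
    by_contra ha
    obtain rfl : a = 0 := by omega
    rw [pow_zero, mul_one] at hcard
    exact SmallTriple.two_primes_false hG Nat.prime_three hq (i := 2) (j := 1)
      (by rw [hcard]; norm_num)
  obtain ⟨P⟩ := (inferInstance : Nonempty (Sylow 2 G))
  have hP : Nat.card (P : Subgroup G) = 2 ^ a := by
    rw [P.card_eq_multiplicity, hcard, Nat.factorization_mul (by positivity) hq.ne_zero,
      Nat.factorization_mul (by norm_num) (by positivity), Nat.prime_two.factorization_pow,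
      hq.factorization]
    simp [Nat.factorization_eq_zero_of_not_dvd (show ¬ 2 ∣ 9 by norm_num), hq2]
  haveI : Nontrivial (P : Subgroup G) := by
    rw [← Finite.one_lt_card_iff_nontrivial, hP]
    exact Nat.one_lt_two_pow (by omega)
  haveI : Nontrivial (Subgroup.center (P : Subgroup G)) := P.2.center_nontrivial
  obtain ⟨⟨⟨z, hzP⟩, hzC⟩, hz1⟩ := exists_ne (1 : Subgroup.center (P : Subgroup G))
  have hzne : z ≠ 1 := fun e => hz1 (Subtype.ext (Subtype.ext e))
  have hzc : ∀ w ∈ (P : Subgroup G), w * z = z * w := fun w hw =>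
    congrArg Subtype.val (Subgroup.mem_center_iff.1 hzC ⟨w, hw⟩)
  have hz3 : ¬ 3 ∣ orderOf z := fun h => by
    obtain ⟨j, hj⟩ := IsPGroup.iff_orderOf.1 P.2 ⟨z, hzP⟩
    rw [Subgroup.orderOf_mk] at hj
    rw [hj] at h
    exact absurd (Nat.prime_three.dvd_of_dvd_pow h) (by norm_num)
  have hPC : 2 ^ a ∣ Nat.card (centralizer ({z} : Set G)) :=
    hP ▸ Subgroup.card_dvd_of_le fun w hw => mem_centralizer_singleton_iff.2 (hzc w hw)
  have hcenter : Subgroup.center G = ⊥ := by
    rcases IsSimpleGroup.eq_bot_or_eq_top_of_normal (Subgroup.center G) inferInstance with h | h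
    · exact h
    · exact absurd ⟨⟨fun u v => (Subgroup.mem_center_iff.1 (h ▸ Subgroup.mem_top v) u)⟩⟩ hG
  haveI := hKn
  obtain ⟨N, hN, hNeq⟩ := exists_count hM (y := (y : G)) (z := z) ⟨1, by rw [pow_one, hy3]⟩ hK hk
  rw [show Finset.univ.filter (· ∈ principalBlock M G) = insert (principal G) (insert B.f B.Y) by
      ext χ; simp [B.block χ],
    Finset.sum_insert (by
      simp only [Finset.mem_insert, not_or]
      exact ⟨B.ne.symm, fun h => (B.Y_ne _ h).1 rfl⟩),
    Finset.sum_insert (fun h => (B.Y_ne _ h).2 rfl)] at hNeq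
  simp only [principal_apply, one_mul, div_one] at hNeq
  rw [B.f_val _ _ (isPPart_self hyR) hyR hy1] at hNeq
  have hδC : (B.δ : ℂ) * B.δ = 1 := by
    rcases B.hδ with h | h <;> rw [h] <;> norm_num
  have hYz : ∀ η ∈ B.Y, (η : G → ℂ) z = (B.δ : ℂ) * (1 + B.σ * (B.f : G → ℂ) z) := fun η hη => by
    rw [← B.rel_apply η hη z hz3, ← mul_assoc, hδC, one_mul]
  rw [Finset.sum_congr rfl fun η hη => by rw [hYz η hη, CharApps.deg_eq η, B.Y_deg η hη],
    ← Finset.mul_sum, B.Y_sum _ hyR hy1, CharApps.deg_eq B.f] at hNeq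
  have h2a : 2 ^ (2 * a) ∣ N := by
    rw [show 2 ^ (2 * a) = (2 ^ a) ^ 2 by rw [← pow_mul, mul_comm]]
    exact (pow_dvd_pow_of_dvd hPC 2).trans hN
  have hbound : ∀ c : ℕ, N = 9 * 2 ^ (a + c) * Nat.card K →
      a ≤ c + (Nat.card K).factorization 2 := by
    intro c hc
    have hK0 : Nat.card K ≠ 0 := Nat.card_pos.ne'
    have hN0 : N ≠ 0 := by rw [hc]; positivity
    have h := (Nat.prime_two.pow_dvd_iff_le_factorization hN0).1 h2a
    rw [hc, Nat.factorization_mul (by positivity) hK0,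
      Nat.factorization_mul (by norm_num) (by positivity), Nat.prime_two.factorization_pow,
      Finsupp.add_apply, Finsupp.add_apply, Finsupp.single_eq_same] at h
    generalize (Nat.card K).factorization 2 = v at h ⊢
    simp [Nat.factorization_eq_zero_of_not_dvd (show ¬ 2 ∣ 9 by norm_num)] at h
    omega
  haveI := Fact.mk hq
  obtain ⟨Q⟩ := (inferInstance : Nonempty (Sylow q G))
  have hQ : Nat.card (Q : Subgroup G) = q := by
    rw [Q.card_eq_multiplicity, hcard, Nat.factorization_mul (by positivity) hq.ne_zero,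
      hq.factorization, Nat.factorization_mul (by norm_num) (by positivity),
      Nat.prime_two.factorization_pow]
    simp [hq2.symm, Nat.factorization_eq_zero_of_not_dvd
      (show ¬ q ∣ 9 from fun h => hq3 ((Nat.prime_dvd_prime_iff_eq hq Nat.prime_three).1
        (hq.dvd_of_dvd_pow (show q ∣ 3 ^ 2 from h))))]
  have hCQ : centralizer ((Q : Subgroup G) : Set G) = (Q : Subgroup G) :=
    Blocks.centralizer_sylow_three_prime Nat.prime_three Nat.prime_two (a := 2) (b := a)
      (Ne.symm hq3) (Ne.symm hq2) (by rw [hcard]; norm_num) Q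
  have hcount : ∀ e : ℕ, Nat.card (centralizer ((Q : Subgroup G) : Set G)) * e =
      Nat.card (normalizer ((Q : Subgroup G) : Set G)) →
      ∃ n, n % q = 1 ∧ n * e = 9 * 2 ^ a := by
    intro e he
    refine ⟨Nat.card (Sylow q G), ?_, ?_⟩
    · have h := card_sylow_modEq_one q G
      rw [Nat.ModEq, Nat.one_mod_eq_one.2 hq.ne_one] at h
      exact h
    · rw [hCQ, hQ] at he
      have h := (normalizer ((Q : Subgroup G) : Set G)).index_mul_card
      have e1 : Nat.card (Sylow q G) = (normalizer ((Q : Subgroup G) : Set G)).index :=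
        Sylow.card_eq_index_normalizer Q
      rw [← he, ← e1, hcard] at h
      exact Nat.eq_of_mul_eq_mul_right hq.pos (by rw [← h]; ring)
  rcases hcases with ⟨hf8, hx7, rfl, hσ, hδ⟩ | ⟨i, hfq, hxi, hδσ, hi⟩
  · -- `q = 7`
    have hfz : (B.f : G → ℂ) z = 0 := eq_zero_on_sylow_center hcenter P B.f
      (SmallTriple.faithful hG B.ne) (n := 3) (by rw [hf8]; norm_num) hzne hzc
    rw [hfz, hf8, hx7, hσ, hδ, hcard] at hNeq
    have hN8 : N = 9 * 2 ^ (a + 3) * Nat.card K := by
      apply Nat.cast_injective (R := ℂ)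
      rw [hNeq]; push_cast; ring
    have hv := two_part_le (c := ((-1 : ℤ) : ℂ)) (n := 2) (SmallTriple.faithful hG B.ne)
      (fun g _ τ => by rw [← galoisIrr_apply, hrat τ]) hy3 K (fun h hc h3 => ⟨
        hσ ▸ B.f_val _ _ ⟨h, rfl, hc.symm, ⟨1, by rw [pow_one, hy3]⟩, h3⟩ hyR hy1,
        hσ ▸ B.f_val _ _ ⟨h, rfl, (hc.pow_right 2).symm, ⟨1, by
          rw [pow_one, orderOf_pow, hy3]; rfl⟩, h3⟩ (pow_mem hyR 2) hy21⟩) (by
        rw [CharApps.deg_eq, hf8]; norm_num)
    have h3 : (∑ i ∈ Finset.range (2 + 1), 2 / ((2 - 1) * 2 ^ i)) = 3 := by decide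
    have ha := hbound 3 hN8
    obtain ⟨e, he1, he, hen⟩ := Small.exists_normalizer_centralizer hG Q hQ
    obtain ⟨n, hn, hne⟩ := hcount e hen
    rcases exponent_seven he he1 (by omega) hn hne with rfl | rfl
    · exact Or.inl hcard
    · exact absurd (hcard.trans (by norm_num)) (Agent.S0976.result (G := G))
  · have hz0 : ∀ η ∈ B.Y, (η : G → ℂ) z = 0 := fun η hη => eq_zero_on_sylow_center hcenter P η
      (SmallTriple.faithful hG (B.Y_ne η hη).1) (n := i) (by rw [B.Y_deg η hη, hxi]) hzne hzc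
    have hfz : (B.f : G → ℂ) z = -(B.σ : ℂ) := by
      have h := B.rel_apply η₀ hη₀ z hz3
      rw [hz0 η₀ hη₀, mul_zero] at h
      rcases B.hσ with h' | h' <;> rw [h'] at h ⊢ <;> push_cast at h ⊢
      · linear_combination -h
      · linear_combination h
    rcases hi with ⟨hσ, hqi, hi7⟩ | ⟨hσ, hqi, hi6⟩
    · -- Mersenne
      exfalso
      have h128 : 2 ^ 7 ≤ 2 ^ i := Nat.pow_le_pow_right (by norm_num) hi7
      obtain ⟨M', hM'⟩ := exists_pModular q
      obtain ⟨e, θd, -, -, -, hθ, -, θ, -, -, -, hbig⟩ := prime_block hG (by omega) hcard hM' Q hQ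
      have := hbig fun d hd2 hd ε hε h => by
        obtain ⟨u, w, hu, hw, rfl⟩ := exists_dvd_and_dvd_of_dvd_mul hd
        obtain ⟨k, hk, rfl⟩ := (Nat.dvd_prime_pow Nat.prime_three).1 (show u ∣ 3 ^ 2 from hu)
        obtain ⟨j, -, rfl⟩ := (Nat.dvd_prime_pow Nat.prime_two).1 hw
        exact (mersenne_residue hqi hi7 hk hε h).2
      omega
    · -- Fermat
      have h16 : 2 ^ 4 ≤ 2 ^ i := Nat.pow_le_pow_right (by norm_num) (by omega)
      obtain ⟨M', hM'⟩ := exists_pModular q
      obtain ⟨e, θd, -, hedvd, hen, hθ, hθmod, θ, hθne, hθdeg, hθrat, -⟩ :=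
        prime_block hG (by omega) hcard hM' Q hQ
      obtain ⟨j, -, rfl⟩ := (Nat.dvd_prime_pow Nat.prime_two).1 (show e ∣ 2 ^ i by
        rwa [show q - 1 = 2 ^ i by omega] at hedvd)
      obtain ⟨rfl, rfl⟩ := fermat_seventeen hqi hi6
        (by rwa [show q - 1 = 2 ^ i by omega] at hedvd) hθ hθmod
      obtain rfl : q = 17 := by omega
      obtain rfl : θd = 9 := by omega
      have hδ : B.δ = -1 := hδσ.trans hσ
      rw [hfz, hfq, hxi, hσ, hδ, hcard] at hNeq
      have hN16 : N = 9 * 2 ^ (a + 4) * Nat.card K := by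
        apply Nat.cast_injective (R := ℂ)
        rw [hNeq]; push_cast; ring
      have h9 : ∀ g : G, 3 ∣ orderOf g → (θ : G → ℂ) g = 0 := fun g hg =>
        eq_zero_of_dvd_orderOf θ.2 Nat.prime_three (d := 9) (n := 2)
          (by rw [CharApps.deg_eq, hθdeg]) (fun h27 => by
            have h := (Nat.prime_three.pow_dvd_iff_le_factorization Nat.card_pos.ne').1 h27
            rw [hcard, Nat.factorization_mul (by positivity) (by norm_num),
              Nat.factorization_mul (by norm_num) (by positivity), Nat.prime_two.factorization_pow,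
              show (9 : ℕ) = 3 ^ 2 by norm_num, Nat.prime_three.factorization_pow,
              (by norm_num : Nat.Prime 17).factorization] at h
            simp at h) (by norm_num) hg
      have hv := two_part_le (c := (0 : ℂ)) (n := 3) (SmallTriple.faithful hG hθne)
        (fun g ⟨j, hj⟩ τ => hθrat g (fun h => by
          rw [hj] at h
          exact absurd ((by norm_num : Nat.Prime 17).dvd_of_dvd_pow h) (by norm_num)) τ) hy3 K
        (fun h hc h3 => ⟨h9 _ (by
            rw [hc.symm.orderOf_mul_eq_mul_orderOf_of_coprime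
              (by rw [hy3]; exact Nat.prime_three.coprime_iff_not_dvd.2 h3), hy3]
            exact dvd_mul_right _ _), h9 _ (by
            have h2 : orderOf ((y : G) ^ 2) = 3 := by rw [orderOf_pow, hy3]; rfl
            rw [(hc.pow_right 2).symm.orderOf_mul_eq_mul_orderOf_of_coprime
              (by rw [h2]; exact Nat.prime_three.coprime_iff_not_dvd.2 h3), h2]
            exact dvd_mul_right _ _)⟩) (by rw [CharApps.deg_eq, hθdeg]; norm_num)
      have h4 : (∑ i ∈ Finset.range (3 + 1), 3 / ((2 - 1) * 2 ^ i)) = 4 := by decide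
      have ha := hbound 4 hN16
      have ha4 : 4 ≤ a := by
        have h16' : 2 ^ 4 ∣ 9 * 2 ^ a * 17 := by
          have := B.Y_deg η₀ hη₀ ▸ hdvd η₀
          rw [hxi, pow_one] at this
          exact this
        have h' := (Nat.prime_two.pow_dvd_iff_le_factorization (by positivity)).1 h16'
        rw [Nat.factorization_mul (by positivity) (by norm_num),
          Nat.factorization_mul (by norm_num) (by positivity), Nat.prime_two.factorization_pow] at h'
        simpa [Nat.factorization_eq_zero_of_not_dvd (show ¬ 2 ∣ 9 by norm_num),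
          Nat.factorization_eq_zero_of_not_dvd (show ¬ 2 ∣ 17 by norm_num)] using h'
      obtain ⟨n, hn, hne⟩ := hcount _ hen
      obtain rfl := exponent_seventeen ha4 (by omega) hn (by simpa using hne)
      exact Or.inr hcard

end CfsgLib.CharsMore.NinePrimes
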