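import Mathlib
import Cfsg.Agent.Lib.CharsMore.NinePrimes.Arith

/-!
# The nine rows of the principal block for `N(R)/C(R)` a four group

The five integral columns force one row for each of the nine pairs of types; the signed degrees
form an array with vanishing line sums, which is impossible for degrees `2^u q^v`, `v ≤ 1`.
-/

set_option autoImplicit false
set_option linter.style.haveILetI false
set_option linter.unusedSectionVars false

namespace CfsgLib.CharsMore.NinePrimes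

open Finset

/-- The columns at the three classes of elements of order three. -/
structure Columns (ι : Type*) [Fintype ι] (p₀ : ι) where
  c : ι → ℤ
  a : ι → ℤ
  b : ι → ℤ
  a' : ι → ℤ
  b' : ι → ℤ
  cp : c p₀ = 1
  ap : a p₀ = 1
  bp : b p₀ = 0
  ap' : a' p₀ = 1
  bp' : b' p₀ = 0
  cc : ∑ x, c x * c x = 9
  aa : ∑ x, a x * a x = 6
  ab : ∑ x, a x * b x = 3
  bb : ∑ x, b x * b x = 6
  aa' : ∑ x, a' x * a' x = 6
  ab' : ∑ x, a' x * b' x = 3
  bb' : ∑ x, b' x * b' x = 6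
  ca : ∑ x, c x * a x = 0
  cb : ∑ x, c x * b x = 0
  ca' : ∑ x, c x * a' x = 0
  cb' : ∑ x, c x * b' x = 0
  xaa : ∑ x, a x * a' x = 0
  xab : ∑ x, a x * b' x = 0
  xba : ∑ x, b x * a' x = 0
  xbb : ∑ x, b x * b' x = 0
  cmod : ∀ x, ¬ (3 : ℤ) ∣ c x
  amod : ∀ x, (3 : ℤ) ∣ c x - (a x + b x)
  amod' : ∀ x, (3 : ℤ) ∣ c x - (a' x + b' x)

variable {ι : Type*} [Fintype ι] {p₀ : ι}

/-- With at most six rows only zero is orthogonal to the five columns and to `p₀`. -/
theorem Columns.eq_zero_of_card_le (S : Columns ι p₀) (h6 : Fintype.card ι ≤ 6) (D : ι → ℂ)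
    (hp : D p₀ = 0) (hc : ∑ x, (S.c x : ℂ) * D x = 0) (ha : ∑ x, (S.a x : ℂ) * D x = 0)
    (hb : ∑ x, (S.b x : ℂ) * D x = 0) (ha' : ∑ x, (S.a' x : ℂ) * D x = 0)
    (hb' : ∑ x, (S.b' x : ℂ) * D x = 0) : D = 0 := by
  classical
  obtain ⟨V, hV⟩ : ∃ V : Fin 6 → ι → ℂ, V = ![fun x => (S.c x : ℂ), fun x => (S.a x : ℂ),
    fun x => (S.b x : ℂ), fun x => (S.a' x : ℂ), fun x => (S.b' x : ℂ),
    fun x => if x = p₀ then 1 else 0] := ⟨_, rfl⟩
  have hind : LinearIndependent ℂ V := by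
    rw [Fintype.linearIndependent_iff]
    intro g hg
    have key : ∀ w : ι → ℂ, ∑ j, g j * ∑ x, V j x * w x = 0 := fun w => by
      have : ∑ x, (∑ j, g j • V j) x * w x = 0 := by rw [hg]; simp
      rw [← this]
      simp only [Finset.sum_apply, Pi.smul_apply, smul_eq_mul, Finset.sum_mul, Finset.mul_sum]
      rw [Finset.sum_comm]
      exact sum_congr rfl fun x _ => sum_congr rfl fun j _ => by ring
    have e : ∀ f h : ι → ℤ, ∑ x, (f x : ℂ) * (h x : ℂ) = ((∑ x, f x * h x : ℤ) : ℂ) := fun f h => by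
      push_cast; rfl
    have sw : ∀ f h : ι → ℤ, ∑ x, f x * h x = ∑ x, h x * f x := fun f h =>
      sum_congr rfl fun x _ => mul_comm _ _
    have k1 := key (fun x => (S.c x : ℂ))
    have k2 := key (fun x => (S.a x : ℂ))
    have k3 := key (fun x => (S.b x : ℂ))
    have k4 := key (fun x => (S.a' x : ℂ))
    have k5 := key (fun x => (S.b' x : ℂ))
    have k6 := key (fun x => if x = p₀ then 1 else 0)
    simp only [Fin.sum_univ_six, hV, Matrix.cons_val_zero, Matrix.cons_val_one, Matrix.cons_val,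
      e, sw S.a S.c, sw S.b S.c, sw S.a' S.c, sw S.b' S.c, sw S.b S.a, sw S.b' S.a',
      sw S.a' S.a, sw S.b' S.a, sw S.a' S.b, sw S.b' S.b,
      S.cc, S.aa, S.ab, S.bb, S.aa', S.ab', S.bb', S.ca, S.cb, S.ca', S.cb', S.xaa, S.xab, S.xba,
      S.xbb, mul_ite, ite_mul, one_mul, zero_mul, mul_one, mul_zero, Finset.sum_ite_eq',
      Finset.mem_univ, if_true, S.cp, S.ap, S.bp, S.ap', S.bp',
      Int.cast_one, Int.cast_zero, Int.cast_ofNat] at k1 k2 k3 k4 k5 k6
    have h5 : g 5 = 0 := by linear_combination (-1 / 4) * k1 - (1 / 2) * k2 + (1 / 4) * k3 -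
      (1 / 2) * k4 + (1 / 4) * k5 + (9 / 4) * k6
    rw [h5] at k1 k2 k4
    intro j
    fin_cases j
    · show g 0 = 0
      linear_combination k1 / 9
    · show g 1 = 0
      linear_combination (2 / 9) * k2 - k3 / 9
    · show g 2 = 0
      linear_combination (2 / 9) * k3 - k2 / 9
    · show g 3 = 0
      linear_combination (2 / 9) * k4 - k5 / 9
    · show g 4 = 0
      linear_combination (2 / 9) * k5 - k4 / 9
    · exact h5
  have hcard : Fintype.card (Fin 6) = Module.finrank ℂ (ι → ℂ) := by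
    have := hind.fintype_card_le_finrank
    rw [Fintype.card_fin, Module.finrank_fintype_fun_eq_card] at this ⊢
    omega
  have hspan := hind.span_eq_top_of_card_eq_finrank hcard
  have horth : ∀ w : ι → ℂ, ∑ x, w x * D x = 0 := by
    intro w
    have hw : w ∈ Submodule.span ℂ (Set.range V) := hspan ▸ Submodule.mem_top
    induction hw using Submodule.span_induction with
    | mem w hw =>
      obtain ⟨j, rfl⟩ := hw
      rw [hV]
      fin_cases j <;> simp [hc, ha, hb, ha', hb', hp]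
    | zero => simp
    | add u v _ _ hu hv => simp [add_mul, Finset.sum_add_distrib, hu, hv]
    | smul r u _ hu => simp [mul_assoc, ← Finset.mul_sum, hu]
  funext x
  simpa using horth (fun y => if y = x then 1 else 0)

/-- Coordinates of the three types. -/
def typeA : Fin 3 → ℤ := ![1, 0, -1]

/-- Coordinates of the three types. -/
def typeB : Fin 3 → ℤ := ![0, 1, -1]

theorem exists_type {c a b : ℤ} (hc : c = 1 ∨ c = -1) (hn : a * a - a * b + b * b = 1)
    (hm : (3 : ℤ) ∣ c - (a + b)) : ∃ i, a = c * typeA i ∧ b = c * typeB i := by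
  have ha : -1 ≤ a ∧ a ≤ 1 := by constructor <;> nlinarith [sq_nonneg (2 * b - a)]
  have hb : -1 ≤ b ∧ b ≤ 1 := by constructor <;> nlinarith [sq_nonneg (2 * a - b)]
  obtain ⟨ha1, ha2⟩ := ha
  obtain ⟨hb1, hb2⟩ := hb
  rcases hc with rfl | rfl <;> interval_cases a <;> interval_cases b <;>
    first
    | ((refine ⟨0, ?_, ?_⟩ <;> simp [typeA, typeB]); done)
    | ((refine ⟨1, ?_, ?_⟩ <;> simp [typeA, typeB]); done)
    | ((refine ⟨2, ?_, ?_⟩ <;> simp [typeA, typeB]); done)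
    | omega

/-- With at least seven rows: nine rows, one for each pair of types. -/
theorem Columns.exists_types (S : Columns ι p₀) (h7 : 7 ≤ Fintype.card ι) :
    ∃ τ : Fin 3 × Fin 3 ≃ ι, τ (0, 0) = p₀ ∧ (∀ x, S.c x = 1 ∨ S.c x = -1) ∧
      ∀ i j, S.a (τ (i, j)) = S.c (τ (i, j)) * typeA i ∧ S.b (τ (i, j)) = S.c (τ (i, j)) * typeB i ∧
        S.a' (τ (i, j)) = S.c (τ (i, j)) * typeA j ∧ S.b' (τ (i, j)) = S.c (τ (i, j)) * typeB j := by
  classical
  have hsq : ∀ x, 1 ≤ S.c x * S.c x := fun x => by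
    have : S.c x ≠ 0 := fun h => S.cmod x (h ▸ dvd_zero _)
    exact Int.add_one_le_iff.2 (mul_self_pos.2 this)
  have hc1 : ∀ x, S.c x = 1 ∨ S.c x = -1 := by
    intro x
    by_contra h
    push Not at h
    have h4 : 4 ≤ S.c x * S.c x := by
      have h0 : S.c x ≠ 0 := fun e => S.cmod x (e ▸ dvd_zero _)
      rcases lt_or_gt_of_ne h0 with h' | h'
      · nlinarith [show S.c x ≤ -2 by omega]
      · nlinarith [show 2 ≤ S.c x by omega]
    have hrest : ((Finset.univ.erase x).card : ℤ) ≤ ∑ y ∈ Finset.univ.erase x, S.c y * S.c y := by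
      simpa using Finset.sum_le_sum fun y (_ : y ∈ Finset.univ.erase x) => hsq y
    have := S.cc
    rw [← Finset.add_sum_erase _ _ (Finset.mem_univ x)] at this
    rw [Finset.card_erase_of_mem (Finset.mem_univ x), Finset.card_univ] at hrest
    omega
  have hcc : ∀ x, S.c x * S.c x = 1 := fun x => by rcases hc1 x with h | h <;> rw [h] <;> norm_num
  have hcard : Fintype.card ι = 9 := by
    have := S.cc
    simp only [hcc, Finset.sum_const, Finset.card_univ, nsmul_eq_mul, mul_one] at this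
    exact_mod_cast this
  have hnorm : ∀ (a b : ι → ℤ), (∑ x, a x * a x = 6) → (∑ x, a x * b x = 3) →
      (∑ x, b x * b x = 6) → (∀ x, (3 : ℤ) ∣ S.c x - (a x + b x)) →
      ∀ x, ∃ i, a x = S.c x * typeA i ∧ b x = S.c x * typeB i := by
    intro a b h1 h2 h3 hm x
    have hge : ∀ y, 1 ≤ a y * a y - a y * b y + b y * b y := fun y => by
      have hne : a y ≠ 0 ∨ b y ≠ 0 := by
        by_contra h
        push Not at h
        have h3 := hm y
        rw [h.1, h.2] at h3
        exact S.cmod y (by simpa using h3)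
      have h0 : 0 < a y * a y - a y * b y + b y * b y := by
        rcases hne with h | h
        · nlinarith [mul_self_pos.2 h, sq_nonneg (2 * b y - a y)]
        · nlinarith [mul_self_pos.2 h, sq_nonneg (2 * a y - b y)]
      omega
    have hsum : ∑ y, (a y * a y - a y * b y + b y * b y) = ∑ _y : ι, (1 : ℤ) := by
      rw [Finset.sum_add_distrib, Finset.sum_sub_distrib, h1, h2, h3]
      simp [hcard]
    exact exists_type (hc1 x)
      (((Finset.sum_eq_sum_iff_of_le fun y _ => hge y).1 hsum.symm x (Finset.mem_univ x)).symm) (hm x)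
  choose T hT using hnorm S.a S.b S.aa S.ab S.bb S.amod
  choose T' hT' using hnorm S.a' S.b' S.aa' S.ab' S.bb' S.amod'
  obtain ⟨n, hn⟩ : ∃ n : Fin 3 × Fin 3 → ℕ,
      ∀ t, n t = (Finset.univ.filter fun x => (T x, T' x) = t).card := ⟨_, fun _ => rfl⟩
  have hfib : ∀ F : Fin 3 × Fin 3 → ℤ, ∑ x, F (T x, T' x) = ∑ t, (n t : ℤ) * F t := fun F => by
    rw [← Finset.sum_fiberwise Finset.univ (fun x => (T x, T' x)) fun x => F (T x, T' x)]
    refine sum_congr rfl fun t _ => ?_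
    rw [sum_congr rfl (g := fun _ => F t) fun x hx => by rw [(mem_filter.1 hx).2], sum_const, hn,
      nsmul_eq_mul]
  have hmul : ∀ x (u v : ℤ), S.c x * u * (S.c x * v) = u * v := fun x u v => by
    linear_combination u * v * hcc x
  have hcmul : ∀ x (u : ℤ), S.c x * (S.c x * u) = u := fun x u => by linear_combination u * hcc x
  have e1 := hfib fun _ => 1
  have e2 := hfib fun t => typeA t.1
  have e3 := hfib fun t => typeB t.1
  have e4 := hfib fun t => typeA t.2
  have e5 := hfib fun t => typeB t.2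
  have e6 := hfib fun t => typeA t.1 * typeA t.2
  have e7 := hfib fun t => typeA t.1 * typeB t.2
  have e8 := hfib fun t => typeB t.1 * typeA t.2
  have e9 := hfib fun t => typeB t.1 * typeB t.2
  have f2 := S.ca; have f3 := S.cb; have f4 := S.ca'; have f5 := S.cb'
  have f6 := S.xaa; have f7 := S.xab; have f8 := S.xba; have f9 := S.xbb
  simp only [fun x => (hT x).1, fun x => (hT x).2, fun x => (hT' x).1, fun x => (hT' x).2, hmul,
    hcmul] at f2 f3 f4 f5 f6 f7 f8 f9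
  rw [f2] at e2; rw [f3] at e3; rw [f4] at e4; rw [f5] at e5
  rw [f6] at e6; rw [f7] at e7; rw [f8] at e8; rw [f9] at e9
  rw [Finset.sum_const, Finset.card_univ, hcard] at e1
  simp [Fintype.sum_prod_type, Fin.sum_univ_three, typeA, typeB] at e1 e2 e3 e4 e5 e6 e7 e8 e9
  have h1 : ∀ t, n t = 1 := by
    rintro ⟨i, j⟩
    fin_cases i <;> fin_cases j <;> simp <;> omega
  have hsurj : Function.Surjective fun x => (T x, T' x) := fun t => by
    obtain ⟨x, hx⟩ := Finset.card_pos.1 ((hn t).symm.trans (h1 t) ▸ Nat.one_pos)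
    exact ⟨x, (mem_filter.1 hx).2⟩
  have hbij : Function.Bijective fun x => (T x, T' x) :=
    (Fintype.bijective_iff_surjective_and_card _).2 ⟨hsurj, by simp [hcard]⟩
  have hsymm : ∀ i j, T ((Equiv.ofBijective _ hbij).symm (i, j)) = i ∧
      T' ((Equiv.ofBijective _ hbij).symm (i, j)) = j := fun i j => by
    have h := (Equiv.ofBijective _ hbij).apply_symm_apply (i, j)
    exact Prod.ext_iff.1 h
  refine ⟨(Equiv.ofBijective _ hbij).symm, ?_, hc1, fun i j => ?_⟩
  · rw [Equiv.symm_apply_eq]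
    show ((0 : Fin 3), (0 : Fin 3)) = (T p₀, T' p₀)
    have h1 := hT p₀
    have h2 := hT' p₀
    rw [S.cp, S.ap, S.bp] at h1
    rw [S.cp, S.ap', S.bp'] at h2
    generalize T p₀ = i at h1
    generalize T' p₀ = j at h2
    fin_cases i <;> fin_cases j <;> simp [typeA, typeB] at h1 h2 ⊢
  · obtain ⟨e1, e2⟩ := hsymm i j
    have h1 := hT ((Equiv.ofBijective _ hbij).symm (i, j))
    have h2 := hT' ((Equiv.ofBijective _ hbij).symm (i, j))
    rw [e1] at h1
    rw [e2] at h2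
    exact ⟨h1.1, h1.2, h2.1, h2.2⟩

/-- A signed degree. -/
def IsDeg (q v₀ : ℕ) (x : ℤ) : Prop :=
  2 ≤ x.natAbs ∧ ∃ u v, v ≤ v₀ ∧ x.natAbs = 2 ^ u * q ^ v

theorem two_pow_mul_odd {u n : ℕ} (h : (2 ^ u * n) % 2 = 1) : u = 0 := by
  by_contra hu
  obtain ⟨k, rfl⟩ : ∃ k, u = k + 1 := ⟨u - 1, by omega⟩
  rw [pow_succ, mul_comm _ 2, mul_assoc, Nat.mul_mod_right] at h
  omega

/-- The first pair: `q` next to a power of two. -/
theorem first_pair {q v₀ : ℕ} (hq : q.Prime) (hq5 : 5 ≤ q) {A : ℤ} (hA : IsDeg q v₀ A)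
    (hA1 : IsDeg q v₀ (-1 - A)) :
    ∃ (a0 : ℤ) (i : ℕ), a0.natAbs = q ∧ (1 + a0).natAbs = 2 ^ i ∧ 2 ≤ i ∧
      (A = a0 ∨ A = -1 - a0) := by
  have main : ∀ x y : ℤ, y = -1 - x → IsDeg q v₀ x → IsDeg q v₀ y → x.natAbs % 2 = 1 →
      x.natAbs = q ∧ ∃ i, (1 + x).natAbs = 2 ^ i ∧ 2 ≤ i := by
    rintro x y rfl ⟨hx2, u, v, -, hx⟩ ⟨-, u', v', -, hy⟩ hodd
    obtain rfl := two_pow_mul_odd (hx ▸ hodd)
    rw [pow_zero, one_mul] at hx
    have hv : 1 ≤ v := Nat.one_le_iff_ne_zero.2 fun h => by rw [h, pow_zero] at hx; omega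
    obtain rfl : v' = 0 := by
      by_contra h
      have h1 : (q : ℤ) ∣ x := Int.natCast_dvd.2 (hx ▸ dvd_pow_self q (by omega))
      have h2 : (q : ℤ) ∣ -1 - x := Int.natCast_dvd.2 (hy ▸ dvd_mul_of_dvd_right (dvd_pow_self q h) _)
      have h3 : (q : ℤ) ∣ 1 := by
        have := dvd_add h1 h2
        rw [show x + (-1 - x) = -1 by ring] at this
        exact (dvd_neg.1 this)
      have := Int.le_of_dvd one_pos h3
      omega
    rw [pow_zero, mul_one] at hy
    obtain rfl : v = 1 := SmallTriple.exponent_eq_one hq hq5 hv (x := u') (by omega)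
    rw [pow_one] at hx
    refine ⟨hx, u', by omega, ?_⟩
    by_contra hu
    have : 2 ^ u' ≤ 2 ^ 1 := Nat.pow_le_pow_right (by norm_num) (by omega)
    omega
  rcases Nat.mod_two_eq_zero_or_one A.natAbs with h | h
  · obtain ⟨h1, i, h2, h3⟩ := main (-1 - A) A (by ring) hA1 hA (by omega)
    exact ⟨-1 - A, i, h1, h2, h3, Or.inr (by ring)⟩
  · obtain ⟨h1, i, h2, h3⟩ := main A (-1 - A) rfl hA hA1 h
    exact ⟨A, i, h1, h2, h3, Or.inl rfl⟩

theorem natAbs_of_odd {q : ℕ} {x : ℤ} (h : IsDeg q 1 x) (hodd : x % 2 = 1) : x.natAbs = q := by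
  obtain ⟨h2, u, v, hv, hx⟩ := h
  obtain rfl := two_pow_mul_odd (hx ▸ (by omega : x.natAbs % 2 = 1))
  interval_cases v <;> simp at hx <;> omega

theorem not_isDeg_three {q i : ℕ} {a0 : ℤ} (ha : a0.natAbs = q) (hq : q.Prime)
    (hi : (1 + a0).natAbs = 2 ^ i) (hi2 : 2 ≤ i) : ¬ IsDeg q 1 (3 * a0 + 1) := by
  rintro ⟨-, u, v, hv, hx⟩
  have hq2 := hq.two_le
  obtain rfl : v = 0 := by
    by_contra h
    have h1 : (q : ℤ) ∣ 3 * a0 + 1 :=
      Int.natCast_dvd.2 (hx ▸ dvd_mul_of_dvd_right (dvd_pow_self q h) _)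
    have h2 : (q : ℤ) ∣ a0 := Int.natCast_dvd.2 (ha ▸ dvd_refl q)
    have := Int.le_of_dvd one_pos ((dvd_add_right (h2.mul_left 3)).1 h1)
    omega
  rw [pow_zero, mul_one] at hx
  obtain ⟨c, hc⟩ : 4 ∣ 2 ^ i := pow_dvd_pow 2 hi2
  rcases Nat.lt_or_ge u 2 with hu | hu
  · have : 2 ^ u ≤ 2 ^ 1 := Nat.pow_le_pow_right (by norm_num) (by omega)
    omega
  · obtain ⟨d, hd⟩ : 4 ∣ 2 ^ u := pow_dvd_pow 2 hu
    omega

theorem IsDeg.neg {q v₀ : ℕ} {x : ℤ} (h : IsDeg q v₀ x) : IsDeg q v₀ (-x) := by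
  simpa [IsDeg, Int.natAbs_neg] using h

/-- Two signed degrees differing by `±q`. -/
theorem pair_cases {q : ℕ} {a0 x y : ℤ} (ha : a0.natAbs = q) (hqodd : q % 2 = 1)
    (hx : IsDeg q 1 x) (hy : IsDeg q 1 y) (h : y = x + a0) : x = a0 ∨ x = -(2 * a0) := by
  have hx0 : x ≠ 0 := fun e => by have := hx.1; rw [e] at this; norm_num at this
  have hy0 : y ≠ 0 := fun e => by have := hy.1; rw [e] at this; norm_num at this
  rcases Int.emod_two_eq_zero_or_one x with hxo | hxo
  · rcases Int.natAbs_eq_natAbs_iff.1 ((natAbs_of_odd hy (by omega)).trans ha.symm) with e | e <;> omega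
  · rcases Int.natAbs_eq_natAbs_iff.1 ((natAbs_of_odd hx hxo).trans ha.symm) with e | e <;> omega

/-- No array of signed degrees with vanishing line sums. -/
theorem array_false {q : ℕ} (hq : q.Prime) (hq5 : 5 ≤ q) (X : Fin 3 → Fin 3 → ℤ) (h00 : X 0 0 = 1)
    (hX : ∀ i j, (i, j) ≠ (0, 0) → IsDeg q 1 (X i j)) (hrow : ∀ i, X i 0 + X i 1 + X i 2 = 0)
    (hcol : ∀ j, X 0 j + X 1 j + X 2 j = 0) : False := by
  have r0 := hrow 0; have r1 := hrow 1; have r2 := hrow 2
  have c0 := hcol 0; have c1 := hcol 1; have c2 := hcol 2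
  obtain ⟨a0, i, ha0, hi, hi2, hA⟩ := first_pair hq hq5 (hX 0 1 (by decide))
    (by rw [show -1 - X 0 1 = X 0 2 by omega]; exact hX 0 2 (by decide))
  obtain ⟨b0, j, hb0, hj, hj2, hB⟩ := first_pair hq hq5 (hX 1 0 (by decide))
    (by rw [show -1 - X 1 0 = X 2 0 by omega]; exact hX 2 0 (by decide))
  have hqodd : q % 2 = 1 := Nat.odd_iff.1 (hq.odd_of_ne_two (by omega))
  have hab : b0 = a0 := by
    obtain ⟨c, hc⟩ : 4 ∣ 2 ^ i := pow_dvd_pow 2 hi2
    obtain ⟨d, hd⟩ : 4 ∣ 2 ^ j := pow_dvd_pow 2 hj2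
    omega
  rw [hab] at hB
  have h1 := not_isDeg_three ha0 hq hi hi2
  have hne : ∀ x, IsDeg q 1 x → x ≠ 1 ∧ x ≠ -1 ∧ x ≠ 3 * a0 + 1 ∧ x ≠ -(3 * a0 + 1) := by
    refine fun x hx => ⟨?_, ?_, ?_, ?_⟩
    · rintro rfl; exact absurd hx.1 (by norm_num)
    · rintro rfl; exact absurd hx.1 (by norm_num)
    · rintro rfl; exact h1 hx
    · rintro rfl; exact h1 (by simpa using hx.neg)
  have h11 := hX 1 1 (by decide)
  have h12 := hX 1 2 (by decide)
  have h21 := hX 2 1 (by decide)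
  have h22 := hX 2 2 (by decide)
  obtain ⟨-, -, t11, -⟩ := hne _ h11
  obtain ⟨n11, -, -, -⟩ := hne _ h11
  obtain ⟨n12, -, t12, -⟩ := hne _ h12
  obtain ⟨n21, -, t21, -⟩ := hne _ h21
  obtain ⟨n22, -, t22, -⟩ := hne _ h22
  rcases hA with hA | hA <;> rcases hB with hB | hB
  · rcases pair_cases ha0 hqodd h11 h21.neg (by omega) with h | h <;> omega
  · rcases pair_cases ha0 hqodd h11 h21.neg (by omega) with h | h <;> omega
  · rcases pair_cases ha0 hqodd h11 h12.neg (by omega) with h | h <;> omega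
  · rcases pair_cases ha0 hqodd h22 h21.neg (by omega) with h | h <;> omega

end CfsgLib.CharsMore.NinePrimes
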