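import Mathlib
import Cfsg.Agent.S4441
import Cfsg.Agent.Lib.Small.SelfCentralPrime
import Cfsg.Agent.Lib.CharApps.PrincipalRational
import Cfsg.Agent.Lib.CharsMore.NinePrimes.FourGroup

/-!
# The principal block on the section of `u`

The block of `M` has three characters; the values on the section are `α + β φ` with integers
`α, β` and a rational function `φ`.
-/

set_option autoImplicit false
set_option linter.style.haveILetI false
set_option linter.unusedSectionVars false

namespace CfsgLib.CharsMore.NinePrimes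

open Cfsg CfsgLib CfsgLib.Chars CfsgLib.CharApps Subgroup
open scoped ComplexConjugate

universe u

variable {G : Type u} [Group G] [Fintype G]

/-- The section coefficient of two elements of one section of the principal block. -/
theorem section_gram {I : Ideal AlgInt} (hI : IsPModular 3 I) {z : G} (hz : ∃ k, orderOf z = 3 ^ k)
    [Fintype (centralizer ({z} : Set G))] {y y' : centralizer ({z} : Set G)} (hy : ¬ 3 ∣ orderOf y)
    (hy' : ¬ 3 ∣ orderOf y') :
    ∑ᶠ χ ∈ principalBlock I G, (χ : G → ℂ) (z * y) * conj ((χ : G → ℂ) (z * y')) =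
      (Nat.card (centralizer ({y'} : Set (centralizer ({z} : Set G)))) : ℂ) *
        blockPart (principalBlock I (centralizer ({z} : Set G))) (Blocks.classInd y') y := by
  classical
  haveI := Fact.mk Nat.prime_three
  haveI : I.IsPrime := hI.2.1.isPrime
  have h := Blocks.blockPart_principalBlock_centralizer hI
    (Blocks.isClassFunction_classInd (z * (y' : G))) hz hy
  have hB := Blocks.isPBlock_principalBlock (G := centralizer ({z} : Set G)) I
  have hcf := Blocks.isClassFunction_mul_left (z := z) (Blocks.isClassFunction_classInd (z * (y' : G)))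
  have hd : IsClassFunction (centralizer ({z} : Set G))
      (fun c => Blocks.classInd (z * (y' : G)) (z * c) + (-1 : ℂ) * Blocks.classInd y' c) :=
    isClassFunction_add hcf (isClassFunction_smul (-1 : ℂ) (Blocks.isClassFunction_classInd y'))
  have h1 := Blocks.blockPart_eq_zero_of_regular Nat.prime_three hI.2.2 hB hd (fun g hg => by
    rw [Blocks.classInd_mul_left_of_regular hz y' g hy' hg]; ring) hy
  have h2 : blockPart (principalBlock I (centralizer ({z} : Set G)))
      (fun c => Blocks.classInd (z * (y' : G)) (z * c)) y =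
      blockPart (principalBlock I (centralizer ({z} : Set G))) (Blocks.classInd y') y := by
    rw [Blocks.blockPart_eq_sum _ hd] at h1
    rw [Blocks.blockPart_eq_sum _ hcf, Blocks.blockPart_eq_sum _ (Blocks.isClassFunction_classInd y')]
    simp only [mul_add, Finset.sum_add_distrib, neg_mul, one_mul, mul_neg,
      Finset.sum_neg_distrib] at h1
    exact eq_of_sub_eq_zero (by rw [sub_eq_add_neg]; exact h1)
  rw [h2, Blocks.blockPart_classInd, Blocks.card_centralizer_mul hz y' hy'] at h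
  rw [← h, mul_inv_cancel_left₀ (Nat.cast_ne_zero.2 Nat.card_pos.ne')]

/-- Elements of different sections have orthogonal columns. -/
theorem section_orth {I : Ideal AlgInt} (hI : IsPModular 3 I) {z : G} (hz : ∃ k, orderOf z = 3 ^ k)
    [Fintype (centralizer ({z} : Set G))] {y : centralizer ({z} : Set G)} (hy : ¬ 3 ∣ orderOf y)
    {g : G} (hg : ∀ c : centralizer ({z} : Set G), ¬ 3 ∣ orderOf c → ¬ IsConj g (z * c)) :
    ∑ᶠ χ ∈ principalBlock I G, (χ : G → ℂ) (z * y) * conj ((χ : G → ℂ) g) = 0 := by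
  classical
  haveI := Fact.mk Nat.prime_three
  haveI : I.IsPrime := hI.2.1.isPrime
  have h := Blocks.blockPart_principalBlock_centralizer hI (Blocks.isClassFunction_classInd g) hz hy
  rw [Blocks.blockPart_eq_zero_of_regular Nat.prime_three hI.2.2 (Blocks.isPBlock_principalBlock I)
    (Blocks.isClassFunction_mul_left (Blocks.isClassFunction_classInd g))
    (fun c hc => by rw [Blocks.classInd_apply, if_neg (hg c hc)]) hy, Blocks.blockPart_classInd] at h
  exact (mul_eq_zero.mp h).resolve_left (inv_ne_zero (Nat.cast_ne_zero.2 Nat.card_pos.ne'))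

/-- The columns on the section of `u`. -/
structure Side (I : Ideal AlgInt) [Fintype (IrrCharacter G)] [DecidablePred (· ∈ principalBlock I G)]
    (u : G) where
  α : IrrCharacter G → ℤ
  β : IrrCharacter G → ℤ
  φ : centralizer ({u} : Set G) → ℂ
  val : ∀ χ ∈ principalBlock I G, ∀ y : centralizer ({u} : Set G), ¬ 3 ∣ orderOf y →
    (χ : G → ℂ) (u * y) = (α χ : ℂ) + (β χ : ℂ) * φ y
  fixed : ∀ y, ¬ 3 ∣ orderOf y → ∀ σ : ℂ ≃+* ℂ, σ (φ y) = φ y
  y₀ : centralizer ({u} : Set G)
  y₀_reg : ¬ 3 ∣ orderOf y₀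
  φ_ne : φ y₀ ≠ φ 1
  d : ℤ
  φ_one : φ 1 = d
  d_mod : (3 : ℤ) ∣ d - 1
  αp : α (principal G) = 1
  βp : β (principal G) = 0
  aa : ∑ χ ∈ Finset.univ.filter (· ∈ principalBlock I G), α χ * α χ = 6
  ab : ∑ χ ∈ Finset.univ.filter (· ∈ principalBlock I G), α χ * β χ = 3
  bb : ∑ χ ∈ Finset.univ.filter (· ∈ principalBlock I G), β χ * β χ = 6

theorem solve_two {A B p q : ℂ} (hne : q ≠ p) (h1 : A + B * p = 0) (h2 : A + B * q = 0) :
    A = 0 ∧ B = 0 := by
  have hB : B = 0 := by
    have : B * (q - p) = 0 := by linear_combination h2 - h1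
    exact (mul_eq_zero.1 this).resolve_right (sub_ne_zero.2 hne)
  exact ⟨by rw [hB, zero_mul, add_zero] at h1; exact h1, hB⟩

theorem solve_three {P Q S p q : ℂ} (hne : q ≠ p) (h11 : P + Q * (p + p) + S * p * p = 0)
    (h12 : P + Q * (p + q) + S * p * q = 0) (h22 : P + Q * (q + q) + S * q * q = 0) :
    P = 0 ∧ Q = 0 ∧ S = 0 := by
  obtain ⟨hA, hB⟩ := solve_two (A := P + Q * p) (B := Q + S * p) hne
    (by linear_combination h11) (by linear_combination h12)
  obtain ⟨hA', hB'⟩ := solve_two (A := P + Q * q) (B := Q + S * q) hne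
    (by linear_combination h12) (by linear_combination h22)
  obtain ⟨hP, hQ⟩ := solve_two hne hA hA'
  exact ⟨hP, hQ, (solve_two hne hB hB').2⟩

/-- A character with a real invariant value relation: the three-term block. -/
theorem three_signed {a b : ℤ} {x z : ℕ} (ha : a = 1 ∨ a = -1) (hb : b = 1 ∨ b = -1)
    (hx : ¬ 3 ∣ x) (hz : ¬ 3 ∣ z) (h : 1 + a * (x : ℤ) + b * (z : ℤ) = 0) :
    (3 : ℤ) ∣ a * (x : ℤ) - 1 ∧ x ≠ z := by
  rcases ha with rfl | rfl <;> rcases hb with rfl | rfl <;> omega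

variable {R : Sylow 3 G} {u v gu gv : G}

set_option maxHeartbeats 1600000 in
open scoped Classical in
theorem FourGroup.exists_side (H : FourGroup R u v gu gv) {I : Ideal AlgInt} (hI : IsPModular 3 I)
    [Fintype (IrrCharacter G)] : Nonempty (Side I u) := by
  haveI := Fact.mk Nat.prime_three
  haveI : I.IsPrime := hI.2.1.isPrime
  haveI := Fintype.ofFinite (centralizer ({u} : Set G))
  obtain ⟨M, π, τ, hMn, hτM, hτ3, hπ, hdec, hreg, hvM, hτu⟩ := H.exists_factor
  haveI := hMn
  haveI := Fintype.ofFinite M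
  haveI := irrFintype M
  haveI := irrFintype (centralizer ({u} : Set G))
  obtain ⟨uC, huC⟩ : ∃ uC : centralizer ({u} : Set G), (uC : G) = u :=
    ⟨⟨u, mem_centralizer_singleton_iff.2 rfl⟩, rfl⟩
  replace hτu : τ uC ≠ 1 := by convert hτu
  have hdec' : ∀ c, ∃ i : ℕ, c = uC ^ i * (π c : centralizer ({u} : Set G)) := fun c => by
    obtain ⟨i, hi⟩ := hdec c
    exact ⟨i, Subtype.ext (by push_cast; rw [huC]; exact hi)⟩
  have hcen : ∀ c : centralizer ({u} : Set G), Commute c uC := fun c =>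
    Subtype.ext (by push_cast; rw [huC]; exact mem_centralizer_singleton_iff.1 c.2)
  have hτord : orderOf (τ uC) = 3 := orderOf_eq_prime (hτ3 uC) hτu
  have huC3 : orderOf uC = 3 := by rw [← Subgroup.orderOf_coe, huC]; exact H.hu
  -- cosets of `M`
  let e : Fin 3 × M ≃ centralizer ({u} : Set G) := Equiv.ofBijective
    (fun p => uC ^ (p.1 : ℕ) * (p.2 : centralizer ({u} : Set G))) ⟨by
      rintro ⟨i, m⟩ ⟨j, m'⟩ h
      have h1 := congrArg τ h
      simp only [map_mul, map_pow, (hτM _).2 m.2, (hτM _).2 m'.2, mul_one] at h1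
      rw [pow_eq_pow_iff_modEq, hτord] at h1
      obtain rfl : i = j := Fin.ext (by
        have := i.2; have := j.2
        rw [Nat.ModEq, Nat.mod_eq_of_lt i.2, Nat.mod_eq_of_lt j.2] at h1
        exact h1)
      exact Prod.ext rfl (Subtype.ext (mul_left_cancel h)), fun c => by
      obtain ⟨i, hi⟩ := hdec' c
      refine ⟨(⟨i % 3, Nat.mod_lt _ (by norm_num)⟩, π c), ?_⟩
      show uC ^ (i % 3) * _ = c
      conv_rhs => rw [hi, pow_eq_pow_mod i (show uC ^ 3 = 1 from huC3 ▸ pow_orderOf_eq_one uC)]⟩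
  have hcardC : Nat.card (centralizer ({u} : Set G)) = 3 * Nat.card M := by
    rw [← Nat.card_congr e, Nat.card_prod, Nat.card_fin]
  have hordM : ∀ m : M, orderOf (m : centralizer ({u} : Set G)) = orderOf m := fun m =>
    Subgroup.orderOf_coe m
  -- the principal blocks
  have hcoe : ∀ θ : IrrCharacter M, IsIrrCharacter (centralizer ({u} : Set G))
      (fun c => (θ : M → ℂ) (π c)) := fun θ =>
    isIrrCharacter_comp π (fun m => ⟨m, hπ m⟩) θ.2
  have hblock : ∀ θ : IrrCharacter M,
      (⟨_, hcoe θ⟩ : IrrCharacter (centralizer ({u} : Set G))) ∈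
        principalBlock I (centralizer ({u} : Set G)) ↔ θ ∈ principalBlock I M := fun θ => by
    rw [mem_principalBlock_iff_regularSum (p := 3) hI.2.2, mem_principalBlock_iff_regularSum (p := 3) hI.2.2]
    refine not_congr (Eq.congr_left (Finset.sum_bij' (fun c _ => π c)
      (fun m _ => (m : centralizer ({u} : Set G))) (fun c hc => ?_) (fun m hm => ?_)
      (fun c hc => ?_) (fun m _ => hπ m) fun c _ => rfl))
    · simp only [Finset.mem_filter, Finset.mem_univ, true_and] at hc ⊢
      exact fun h => hc (h.trans (orderOf_map_dvd π c))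
    · simp only [Finset.mem_filter, Finset.mem_univ, true_and] at hm ⊢
      rwa [hordM]
    · simp only [Finset.mem_filter, Finset.mem_univ, true_and] at hc
      exact congrArg Subtype.val (hπ ⟨c, hreg c hc⟩)
  have hsupp : ∀ c : centralizer ({u} : Set G), c ∉ M →
      blockCoeff (principalBlock I (centralizer ({u} : Set G))) c = 0 := fun c hc =>
    Blocks.blockCoeff_eq_zero_of_dvd Nat.prime_three hI.2.2 (Blocks.isPBlock_principalBlock I)
      (by by_contra hd; exact hc (hreg c hd))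
  have hsum : ∀ F : centralizer ({u} : Set G) → ℂ, (∀ c, c ∉ M → F c = 0) →
      ∑ c, F c = ∑ m : M, F m := fun F hF => by
    rw [← Finset.sum_subtype (Finset.univ.filter (· ∈ M)) (fun c => by simp) F, Finset.sum_filter]
    exact Finset.sum_congr rfl fun c _ => by
      split_ifs with h
      · rfl
      · exact hF c h
  have hcoef : (fun m : M => blockCoeff (principalBlock I (centralizer ({u} : Set G))) m) =
      blockCoeff (principalBlock I M) := by
    refine Blocks.eq_blockCoeff (fun g h => ?_) fun θ => ?_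
    · show blockCoeff _ _ = blockCoeff _ _
      push_cast
      exact Blocks.isClassFunction_blockCoeff _ _ _
    · have h := Blocks.omega_blockCoeff (principalBlock I (centralizer ({u} : Set G))) ⟨_, hcoe θ⟩
      simp only [Blocks.omega, hblock θ] at h
      rw [hsum _ (fun c hc => by rw [hsupp c hc, zero_mul])] at h
      simp only [hπ, map_one] at h
      rw [← h, Blocks.omega]
  have hpart : ∀ (F : centralizer ({u} : Set G) → ℂ), IsClassFunction (centralizer ({u} : Set G)) F →
      ∀ m : M, blockPart (principalBlock I (centralizer ({u} : Set G))) F m =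
        blockPart (principalBlock I M) (fun k : M => F k) m := by
    intro F hF m
    have hF' : IsClassFunction M (fun k : M => F k) := fun g h => by
      show F _ = F _
      push_cast
      exact hF _ _
    rw [Blocks.blockPart_eq_sum _ hF, Blocks.blockPart_eq_sum _ hF',
      hsum _ (fun c hc => by rw [hsupp c hc, zero_mul]), ← hcoef]
    rfl
  -- the three characters of `M`
  obtain ⟨vM, hvM'⟩ : ∃ vM : M, ((vM : centralizer ({u} : Set G)) : G) = v := ⟨⟨_, hvM⟩, rfl⟩
  have hv3 : orderOf vM = 3 := by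
    rw [← Subgroup.orderOf_coe, ← Subgroup.orderOf_coe, hvM']; exact H.hv
  have hle : (R : Subgroup G) ≤ centralizer ({u} : Set G) := fun x hx =>
    mem_centralizer_singleton_iff.2 (H.comm x hx u H.uR)
  have hfac : (Nat.card M).factorization 3 = 1 := by
    have h : Nat.card (R.subtype hle : Subgroup (centralizer ({u} : Set G))) = 9 := by
      rw [Sylow.coe_subtype, Nat.card_congr (subgroupOfEquivOfLe hle).toEquiv, H.card]
    rw [(R.subtype hle).card_eq_multiplicity, hcardC, Nat.factorization_mul (by norm_num)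
      Nat.card_pos.ne', Finsupp.add_apply, Nat.prime_three.factorization_self,
      show (9 : ℕ) = 3 ^ 2 by norm_num] at h
    have := Nat.pow_right_injective (le_refl 2 |>.trans (by norm_num : 2 ≤ 3)) h
    omega
  let P : Sylow 3 M := Sylow.ofCard (zpowers vM) (by rw [Nat.card_zpowers, hv3, hfac, pow_one])
  have hP : (P : Subgroup M) = zpowers vM := rfl
  have hPcard : Nat.card (P : Subgroup M) = 3 := by rw [hP, Nat.card_zpowers, hv3]
  obtain ⟨i₀, hi₀⟩ := hdec' ⟨gv, mem_centralizer_singleton_iff.2 (mul_inv_eq_iff_eq_mul.1 H.gv_u)⟩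
  obtain ⟨mv, hmv⟩ : ∃ mv : M, mv = π ⟨gv, mem_centralizer_singleton_iff.2
      (mul_inv_eq_iff_eq_mul.1 H.gv_u)⟩ := ⟨_, rfl⟩
  rw [← hmv] at hi₀
  have hinv : mv * vM * mv⁻¹ = vM⁻¹ := by
    refine Subtype.ext (Subtype.ext ?_)
    have h := congrArg Subtype.val hi₀
    push_cast at h ⊢
    rw [huC] at h
    rw [hvM', ← H.gv_v, h]
    have hc : Commute (u ^ i₀) (((mv : centralizer ({u} : Set G)) : G) * v *
        ((mv : centralizer ({u} : Set G)) : G)⁻¹) := by
      have h1 : Commute u ((mv : centralizer ({u} : Set G)) : G) :=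
        (mem_centralizer_singleton_iff.1 (mv : centralizer ({u} : Set G)).2 : _ = _).symm
      exact ((h1.mul_right (H.comm u H.uR v H.vR)).mul_right h1.inv_right).pow_left _
    rw [mul_inv_rev]
    calc _ = u ^ i₀ * (((mv : centralizer ({u} : Set G)) : G) * v *
          ((mv : centralizer ({u} : Set G)) : G)⁻¹) * (u ^ i₀)⁻¹ := by
          rw [hc.eq, mul_inv_cancel_right]
      _ = _ := by group
  have hmvN : mv ∈ normalizer ((P : Subgroup M) : Set M) := by
    rw [hP, Subgroup.mem_normalizer_iff]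
    intro x
    constructor
    · intro hx
      obtain ⟨k, rfl⟩ := Subgroup.mem_zpowers_iff.1 hx
      rw [show mv * vM ^ k * mv⁻¹ = (mv * vM * mv⁻¹) ^ k from (conj_zpow).symm, hinv]
      exact zpow_mem (inv_mem (mem_zpowers vM)) k
    · intro hx
      obtain ⟨k, hk⟩ := Subgroup.mem_zpowers_iff.1 hx
      have : x = mv⁻¹ * vM ^ k * mv := by rw [hk]; group
      rw [this]
      have h2 : mv⁻¹ * vM * mv = vM⁻¹ := by
        have := congrArg (fun z => mv⁻¹ * z⁻¹ * mv) hinv
        simpa [mul_assoc] using this.symm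
      have h3 : mv⁻¹ * vM ^ k * mv = (mv⁻¹ * vM * mv) ^ k := by
        have := (conj_zpow (i := k) (a := mv⁻¹) (b := vM)).symm
        rwa [inv_inv] at this
      rw [h3, h2]
      exact zpow_mem (inv_mem (mem_zpowers vM)) k
  have hvne : vM⁻¹ ≠ vM := fun e => by
    have : orderOf vM ∣ 2 := orderOf_dvd_of_pow_eq_one (by
      rw [sq]; nth_rewrite 1 [← e]; rw [inv_mul_cancel])
    rw [hv3] at this; norm_num at this
  have hcentP : ∀ b : M, b * vM * b⁻¹ = vM → b ∈ centralizer ((P : Subgroup M) : Set M) := fun b hb => by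
    refine mem_centralizer_iff.2 fun x hx => ?_
    rw [hP] at hx
    obtain ⟨k, rfl⟩ := Subgroup.mem_zpowers_iff.1 hx
    exact (((show Commute b vM from mul_inv_eq_iff_eq_mul.1 hb).zpow_right k).eq).symm
  have hnotC : ∀ b : M, b * vM * b⁻¹ = vM⁻¹ → b ∉ centralizer ((P : Subgroup M) : Set M) :=
    fun b hb hc => hvne (by
      rw [← hb, mul_inv_eq_iff_eq_mul]
      exact (mem_centralizer_iff.1 hc vM (hP ▸ mem_zpowers vM)).symm)
  have he : (centralizer ((P : Subgroup M) : Set M)).relIndex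
      (normalizer ((P : Subgroup M) : Set M)) = 2 := by
    rw [Subgroup.relIndex, Subgroup.index_eq_two_iff]
    refine ⟨⟨mv, hmvN⟩, fun b => ?_⟩
    have hb0 := (Subgroup.mem_normalizer_iff.1 b.2 vM).1 (hP ▸ mem_zpowers vM)
    have hb : (b : M) * vM * (b : M)⁻¹ ∈ zpowers vM := hP ▸ hb0
    rcases mem_zpowers_three hv3 hb with h | h | h
    · rw [mul_inv_eq_one, mul_eq_left] at h
      exact absurd (h ▸ hv3) (by rw [orderOf_one]; norm_num)
    · refine Or.inr ⟨mem_subgroupOf.2 (hcentP b h), fun h' => hnotC mv hinv ?_⟩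
      exact (Subgroup.mul_mem_cancel_left _ (hcentP b h)).1 (mem_subgroupOf.1 h')
    · refine Or.inl ⟨mem_subgroupOf.2 (hcentP _ ?_), fun h' => hnotC b h (mem_subgroupOf.1 h')⟩
      calc ((b : M) * mv) * vM * ((b : M) * mv)⁻¹ = (b : M) * (mv * vM * mv⁻¹) * (b : M)⁻¹ := by group
        _ = ((b : M) * vM * (b : M)⁻¹)⁻¹ := by rw [hinv]; group
        _ = vM := by rw [h, inv_inv]
  obtain ⟨X, Y, hB, hdisj, hXc, hYc, εX, ε, hXv, hε, hYmod, -, hrel⟩ :=
    Agent.S4441.result 3 I hI (by norm_num) P hPcard 2 he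
  obtain ⟨x₁, x₂, hx12, hX⟩ := Set.ncard_eq_two.1 ((Nat.card_coe_set_eq X).symm.trans hXc)
  obtain ⟨w, hYw⟩ := Set.ncard_eq_one.1 ((Nat.card_coe_set_eq Y).symm.trans (hYc.trans (by norm_num)))
  subst hX hYw
  have h1reg : ¬ 3 ∣ orderOf (1 : M) := by simp
  have hwX : w ≠ x₁ ∧ w ≠ x₂ := ⟨fun e => Set.disjoint_left.1 hdisj (Or.inl e) rfl,
    fun e => Set.disjoint_left.1 hdisj (Or.inr e) rfl⟩
  obtain ⟨hp1, hm1, -⟩ := hXv x₁ (Or.inl rfl)
  obtain ⟨hp2, hm2, -⟩ := hXv x₂ (Or.inr rfl)
  have hmw := hYmod w rfl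
  have hd3 : ∀ θ ∈ principalBlock I M, ¬ 3 ∣ charDegree (θ : M → ℂ) := by
    intro θ hθ h
    have h' : (3 : ℤ) ∣ (charDegree (θ : M → ℂ) : ℤ) := Int.natCast_dvd_natCast.2 h
    rw [hB] at hθ
    rcases hθ with (rfl | rfl) | rfl
    · have := dvd_sub h' (Int.modEq_iff_dvd.1 hm1.symm)
      rcases hp1 with e | e <;> rw [e] at this <;> norm_num at this <;> omega
    · have := dvd_sub h' (Int.modEq_iff_dvd.1 hm2.symm)
      rcases hp2 with e | e <;> rw [e] at this <;> norm_num at this <;> omega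
    · have := dvd_sub h' (Int.modEq_iff_dvd.1 hmw.symm)
      rcases hε with e | e <;> rw [e] at this <;> norm_num at this <;> omega
  have hrel' : ∀ m : M, ¬ 3 ∣ orderOf m → (ε : ℂ) * (w : M → ℂ) m =
      (εX x₁ : ℂ) * (x₁ : M → ℂ) m + (εX x₂ : ℂ) * (x₂ : M → ℂ) m := fun m hm => by
    have h := hrel w rfl m hm
    rwa [finsum_mem_pair hx12] at h
  -- normalise to a relation containing the principal character
  obtain ⟨g, h, s, t, hs, ht, hgh, hgp, hhp, hB3, hrel3⟩ : ∃ (g h : IrrCharacter M) (s t : ℤ),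
      (s = 1 ∨ s = -1) ∧ (t = 1 ∨ t = -1) ∧ g ≠ h ∧ g ≠ principal M ∧ h ≠ principal M ∧
      (∀ θ, θ ∈ principalBlock I M ↔ θ = principal M ∨ θ = g ∨ θ = h) ∧
      ∀ m : M, ¬ 3 ∣ orderOf m → 1 + (s : ℂ) * (g : M → ℂ) m + (t : ℂ) * (h : M → ℂ) m = 0 := by
    have hp := Blocks.principal_mem_principalBlock (G := M) I
    rw [hB] at hp ⊢
    have sq : ∀ k : ℤ, (k = 1 ∨ k = -1) → (k : ℂ) * k = 1 := fun k hk => by
      rcases hk with rfl | rfl <;> norm_num
    simp only [Set.mem_union, Set.mem_insert_iff, Set.mem_singleton_iff] at hp ⊢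
    rcases hp with (hp | hp) | hp
    · refine ⟨x₂, w, εX x₁ * εX x₂, -(εX x₁ * ε), ?_, ?_, hwX.2.symm, hp ▸ hx12.symm,
        hp ▸ hwX.1, fun θ => by rw [hp]; exact or_assoc, fun m hm => ?_⟩
      · rcases hp1 with e | e <;> rcases hp2 with e' | e' <;> rw [e, e'] <;> norm_num
      · rcases hp1 with e | e <;> rcases hε with e' | e' <;> rw [e, e'] <;> norm_num
      · have h := hrel' m hm
        rw [show (x₁ : M → ℂ) m = 1 by rw [← hp, principal_apply], mul_one] at h
        push_cast
        linear_combination (-(εX x₁ : ℂ)) * h - sq _ hp1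
    · refine ⟨x₁, w, εX x₂ * εX x₁, -(εX x₂ * ε), ?_, ?_, hwX.1.symm, hp ▸ hx12,
        hp ▸ hwX.2, fun θ => by rw [hp]; tauto, fun m hm => ?_⟩
      · rcases hp1 with e | e <;> rcases hp2 with e' | e' <;> rw [e, e'] <;> norm_num
      · rcases hp2 with e | e <;> rcases hε with e' | e' <;> rw [e, e'] <;> norm_num
      · have h := hrel' m hm
        rw [show (x₂ : M → ℂ) m = 1 by rw [← hp, principal_apply], mul_one] at h
        push_cast
        linear_combination (-(εX x₂ : ℂ)) * h - sq _ hp2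
    · refine ⟨x₁, x₂, -(ε * εX x₁), -(ε * εX x₂), ?_, ?_, hx12, hp ▸ hwX.1.symm,
        hp ▸ hwX.2.symm, fun θ => by rw [hp]; tauto, fun m hm => ?_⟩
      · rcases hp1 with e | e <;> rcases hε with e' | e' <;> rw [e, e'] <;> norm_num
      · rcases hp2 with e | e <;> rcases hε with e' | e' <;> rw [e, e'] <;> norm_num
      · have h := hrel' m hm
        rw [show (w : M → ℂ) m = 1 by rw [← hp, principal_apply], mul_one] at h
        push_cast
        linear_combination (ε : ℂ) * h - sq _ hε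
  have hdeg3 : 1 + s * (charDegree (g : M → ℂ) : ℤ) + t * (charDegree (h : M → ℂ) : ℤ) = 0 := by
    have := hrel3 1 h1reg
    rw [CharApps.deg_eq, CharApps.deg_eq] at this
    exact_mod_cast this
  obtain ⟨hgmod, hghd⟩ := three_signed hs ht (hd3 g ((hB3 g).2 (Or.inr (Or.inl rfl))))
    (hd3 h ((hB3 h).2 (Or.inr (Or.inr rfl)))) hdeg3
  have hfix : ∀ θ ∈ principalBlock I M, ∀ θ' ∈ principalBlock I M,
      charDegree (θ' : M → ℂ) = charDegree (θ : M → ℂ) → θ' ≠ principal M → θ ≠ principal M →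
        θ' = θ := by
    intro θ hθ θ' hθ' hd h1 h2
    rcases ((hB3 θ).1 hθ).resolve_left h2 with rfl | rfl <;>
      rcases ((hB3 θ').1 hθ').resolve_left h1 with rfl | rfl
    · rfl
    · exact absurd hd.symm hghd
    · exact absurd hd hghd
    · rfl
  have hgmem := (hB3 g).2 (Or.inr (Or.inl rfl))
  have hgfix : ∀ σ : ℂ ≃+* ℂ, galoisIrr σ g = g := fun σ =>
    hfix g hgmem _ ((galoisIrr_mem_principalBlock (p := 3) hI.2.2 σ g).2 hgmem) (by
      apply Nat.cast_injective (R := ℂ)
      rw [← CharApps.deg_eq, ← CharApps.deg_eq, galoisIrr_apply, CharApps.deg_eq, map_natCast])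
      (fun e => hgp (Subtype.ext (funext fun m => by
        have := congrArg (fun θ : IrrCharacter M => (θ : M → ℂ) m) e
        simp only [galoisIrr_apply, principal_apply] at this
        rw [principal_apply]
        exact σ.injective (this.trans (map_one σ).symm)))) hgp
  -- `M` is generated by its elements of order prime to three
  have hgen : Subgroup.closure {m : M | ¬ 3 ∣ orderOf m} = ⊤ := by
    obtain ⟨N, hN⟩ : ∃ N, N = Subgroup.closure {m : M | ¬ 3 ∣ orderOf m} := ⟨_, rfl⟩
    rw [← hN]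
    haveI : N.Normal := ⟨fun n hn k => by
      have hmap : N.map (MulAut.conj k).toMonoidHom ≤ N := by
        rw [hN, MonoidHom.map_closure]
        refine Subgroup.closure_le _ |>.2 ?_
        rintro _ ⟨m, hm, rfl⟩
        refine Subgroup.subset_closure ?_
        show ¬ 3 ∣ orderOf (MulAut.conj k m)
        rwa [MulEquiv.orderOf_eq]
      exact hmap ⟨n, hn, rfl⟩⟩
    have hall : ∀ m : M, ∃ k : ℕ, m ^ 3 ^ k ∈ {m : M | ¬ 3 ∣ orderOf m} := fun m => by
      refine ⟨(orderOf m).factorization 3, ?_⟩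
      show ¬ 3 ∣ orderOf (m ^ _)
      rw [orderOf_pow_of_dvd (pow_ne_zero _ (by norm_num)) (Nat.ordProj_dvd _ _)]
      exact Nat.not_dvd_ordCompl Nat.prime_three (orderOf_pos m).ne'
    have hvN : vM ∈ N := by
      -- a `3`-regular power of `mv` inverts `vM`
      obtain ⟨k, hk⟩ := hall mv
      have hn : mv ^ 3 ^ k ∈ N := hN ▸ Subgroup.subset_closure hk
      have hpow : ∀ j : ℕ, Odd j → mv ^ j * vM * (mv ^ j)⁻¹ = vM⁻¹ := by
        rintro j ⟨l, rfl⟩
        induction l with
        | zero => simpa using hinv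
        | succ l ih =>
          rw [show 2 * (l + 1) + 1 = 1 + 1 + (2 * l + 1) by ring, pow_add, pow_add, pow_one]
          calc mv * mv * mv ^ (2 * l + 1) * vM * (mv * mv * mv ^ (2 * l + 1))⁻¹ =
              mv * (mv * (mv ^ (2 * l + 1) * vM * (mv ^ (2 * l + 1))⁻¹) * mv⁻¹) * mv⁻¹ := by group
            _ = mv * (mv * vM⁻¹ * mv⁻¹) * mv⁻¹ := by rw [ih]
            _ = mv * (mv * vM * mv⁻¹)⁻¹ * mv⁻¹ := by group
            _ = vM⁻¹ := by rw [hinv, inv_inv, hinv]
      have h1 := hpow (3 ^ k) ((show Odd 3 by decide).pow)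
      have h2 : mv ^ 3 ^ k * (vM * (mv ^ 3 ^ k)⁻¹ * vM⁻¹) ∈ N :=
        mul_mem hn (‹N.Normal›.conj_mem _ (inv_mem hn) vM)
      rw [← mul_assoc, ← mul_assoc, h1] at h2
      have h3 : vM⁻¹ * vM⁻¹ = vM := by
        have h33 : vM * vM * vM = 1 := by
          rw [← sq, ← pow_succ]
          exact (congrArg (vM ^ ·) hv3.symm).trans (pow_orderOf_eq_one vM)
        rw [← mul_inv_rev]
        exact inv_eq_of_mul_eq_one_right h33
      rw [h3] at h2
      exact h2
    refine Subgroup.eq_top_iff' _ |>.2 fun m => ?_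
    rw [← QuotientGroup.eq_one_iff, ← orderOf_eq_one_iff]
    obtain ⟨k, hk⟩ := hall m
    have h1 : (QuotientGroup.mk' N m) ^ 3 ^ k = 1 := by
      rw [← map_pow]
      exact (QuotientGroup.eq_one_iff _).2 (hN ▸ Subgroup.subset_closure hk)
    refine Nat.eq_one_of_dvd_coprimes ?_ (orderOf_dvd_of_pow_eq_one h1)
      ((_root_.orderOf_dvd_natCard _).trans (dvd_refl N.index))
    refine Nat.Coprime.pow_left k (Nat.prime_three.coprime_iff_not_dvd.2 fun h3 => ?_)
    have h9 : 3 * 3 ∣ Nat.card M := by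
      rw [← N.card_mul_index]
      exact Nat.mul_dvd_mul (hv3 ▸ Subgroup.orderOf_dvd_natCard N hvN) h3
    have := (Nat.prime_three.pow_dvd_iff_le_factorization Nat.card_pos.ne').1
      (show 3 ^ 2 ∣ Nat.card M from h9)
    omega
  obtain ⟨m₀, hm₀, hgne⟩ : ∃ m₀ : M, ¬ 3 ∣ orderOf m₀ ∧ (g : M → ℂ) m₀ ≠ (g : M → ℂ) 1 := by
    by_contra hno
    push Not at hno
    have htop : charKer g = ⊤ := top_le_iff.1 (hgen ▸ (Subgroup.closure_le _).2 fun m hm =>
      mem_charKer.2 (hno m hm))
    have hall : ∀ m, (g : M → ℂ) m = (g : M → ℂ) 1 := fun m =>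
      mem_charKer.1 (htop ▸ Subgroup.mem_top m)
    have h1 := inner_irr_ne hgp
    rw [inner_def, Finset.sum_congr rfl (g := fun _ => (g : M → ℂ) 1)
      (fun m _ => by rw [hall m, principal_apply, map_one, mul_one]), Finset.sum_const,
      Finset.card_univ, nsmul_eq_mul, ← Nat.card_eq_fintype_card, ← mul_assoc,
      inv_mul_cancel₀ (card_ne_zero M), one_mul] at h1
    exact CharApps.deg_ne_zero g h1
  -- conjugation by `gu`
  have hguC : ∀ c : G, c ∈ centralizer ({u} : Set G) → gu * c * gu⁻¹ ∈ centralizer ({u} : Set G) := by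
    intro c hc
    have h1 : Commute c u⁻¹ := (show Commute c u from mem_centralizer_singleton_iff.1 hc).inv_right
    have h2 := h1.map (MulAut.conj gu).toMonoidHom
    simp only [MulEquiv.coe_toMonoidHom, MulAut.conj_apply] at h2
    rw [show gu * u⁻¹ * gu⁻¹ = (gu * u * gu⁻¹)⁻¹ by group, H.gu_u, inv_inv] at h2
    exact mem_centralizer_singleton_iff.2 h2.eq
  let κ : centralizer ({u} : Set G) →* centralizer ({u} : Set G) :=
    { toFun := fun c => ⟨gu * (c : G) * gu⁻¹, hguC c c.2⟩
      map_one' := Subtype.ext (by simp)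
      map_mul' := fun a b => Subtype.ext (by push_cast; group) }
  have hκinj : Function.Injective κ := fun a b h => Subtype.ext (by
    have := congrArg Subtype.val h
    simpa [κ] using this)
  have hκM : ∀ m : M, κ (m : centralizer ({u} : Set G)) ∈ M := by
    have : (⊤ : Subgroup M) ≤ M.comap (κ.comp M.subtype) := by
      rw [← hgen]
      refine (Subgroup.closure_le _).2 fun m hm => hreg _ fun h => hm ?_
      rw [MonoidHom.comp_apply, orderOf_injective κ hκinj, Subgroup.coe_subtype, hordM] at h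
      exact h
    exact fun m => this (Subgroup.mem_top m)
  let κM : M →* M := (κ.comp M.subtype).codRestrict M hκM
  have hκbij : Function.Bijective κM := Finite.injective_iff_bijective.1 fun a b h =>
    Subtype.ext (hκinj (congrArg Subtype.val h))
  have hinvar : ∀ θ ∈ principalBlock I M, ∀ m : M, (θ : M → ℂ) (κM m) = (θ : M → ℂ) m := by
    intro θ hθ m
    by_cases hθ1 : θ = principal M
    · rw [hθ1, principal_apply, principal_apply]
    obtain ⟨θ', hθ'⟩ : ∃ θ' : IrrCharacter M, ∀ k, (θ' : M → ℂ) k = (θ : M → ℂ) (κM k) :=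
      ⟨⟨_, isIrrCharacter_comp κM hκbij.2 θ.2⟩, fun _ => rfl⟩
    have hmem : θ' ∈ principalBlock I M := by
      rw [mem_principalBlock_iff_regularSum (p := 3) hI.2.2] at hθ ⊢
      intro h0
      refine hθ (Eq.trans (Finset.sum_bij (fun k _ => κM k) (fun k hk => ?_)
        (fun a _ b _ h => hκbij.1 h) (fun b hb => ?_) (fun k _ => hθ' k)).symm h0)
      · simp only [Finset.mem_filter, Finset.mem_univ, true_and] at hk ⊢
        rwa [orderOf_injective κM hκbij.1]
      · obtain ⟨a, rfl⟩ := hκbij.2 b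
        simp only [Finset.mem_filter, Finset.mem_univ, true_and] at hb
        exact ⟨a, by simpa [orderOf_injective κM hκbij.1] using hb, rfl⟩
    have := hfix θ hθ θ' hmem (by
      apply Nat.cast_injective (R := ℂ)
      rw [← CharApps.deg_eq, ← CharApps.deg_eq, hθ', map_one])
      (fun e => hθ1 (Subtype.ext (funext fun k => by
        obtain ⟨k, rfl⟩ := hκbij.2 k
        rw [← hθ', e, principal_apply, principal_apply]))) hθ1
    rw [← hθ', this]
  -- the coefficients
  have hcard0 : (Nat.card M : ℂ) ≠ 0 := card_ne_zero M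
  have hcoefn : ∀ (χ : IrrCharacter G), ∀ θ ∈ principalBlock I M, ∃ n : ℤ,
      classInner (fun m : M => (χ : G → ℂ) (u * ((m : centralizer ({u} : Set G)) : G))) (θ : M → ℂ) = n := by
    intro χ θ hθ
    have hlin : IsCharacter (centralizer ({u} : Set G)) (fun c => (τ c : ℂ)) :=
      isCharacter_of_irr (isIrrCharacter_linear τ)
    have hres := isCharacter_restrict (centralizer ({u} : Set G)) (isCharacter_of_irr χ.2)
    obtain ⟨a, ha⟩ := inner_char_nat hres (isCharacter_of_irr (hcoe θ))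
    obtain ⟨b, hb⟩ := inner_char_nat hres (isCharacter_mul hlin (isCharacter_of_irr (hcoe θ)))
    refine ⟨(a : ℤ) - b, ?_⟩
    rw [inner_def, ← e.sum_comp, Fintype.sum_prod_type, Fin.sum_univ_three, hcardC, Nat.cast_mul,
      Nat.cast_ofNat] at ha hb
    have hπe : ∀ (i : Fin 3) (m : M), π (e (i, m)) = m := fun i m => by
      obtain ⟨j, hj⟩ := hdec' (e (i, m))
      have hje : e (i, m) = uC ^ (i : ℕ) * (m : centralizer ({u} : Set G)) := rfl
      have h1 := congrArg τ (hje.symm.trans hj)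
      simp only [map_mul, map_pow, (hτM _).2 m.2, (hτM _).2 (π (e (i, m))).2, mul_one] at h1
      rw [pow_eq_pow_iff_modEq, hτord] at h1
      have h2 : uC ^ (i : ℕ) = uC ^ j := by rw [pow_eq_pow_iff_modEq, huC3]; exact h1
      rw [hje, h2] at hj
      rw [hje, h2]
      exact (Subtype.ext (mul_left_cancel hj)).symm
    have hτe : ∀ (i : Fin 3) (m : M), (τ (e (i, m)) : ℂ) = (τ uC : ℂ) ^ (i : ℕ) := fun i m => by
      show ((τ (uC ^ (i : ℕ) * (m : centralizer ({u} : Set G))) : ℂˣ) : ℂ) = _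
      rw [map_mul, map_pow, (hτM _).2 m.2, mul_one, Units.val_pow_eq_pow_val]
    have hcoer : ∀ (i : Fin 3) (m : M), ((e (i, m) : centralizer ({u} : Set G)) : G) =
        u ^ (i : ℕ) * ((m : centralizer ({u} : Set G)) : G) := fun i m => by
      show ((uC ^ (i : ℕ) * (m : centralizer ({u} : Set G)) : centralizer ({u} : Set G)) : G) = _
      push_cast
      rw [huC]
    simp only [Pi.mul_apply, hπe, hτe, hcoer, map_mul, map_pow, Fin.val_zero, Fin.val_one,
      Fin.val_two, pow_zero, pow_one, one_mul] at ha hb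
    have hswap : ∑ m : M, (χ : G → ℂ) (u ^ 2 * ((m : centralizer ({u} : Set G)) : G)) *
        conj ((θ : M → ℂ) m) =
        ∑ m : M, (χ : G → ℂ) (u * ((m : centralizer ({u} : Set G)) : G)) * conj ((θ : M → ℂ) m) := by
      rw [← Equiv.sum_comp (Equiv.ofBijective κM hκbij)]
      refine Finset.sum_congr rfl fun m _ => ?_
      rw [Equiv.ofBijective_apply, hinvar θ hθ]
      congr 1
      have h2 : u ^ 2 = u⁻¹ := eq_inv_of_mul_eq_one_left (by
        rw [← pow_succ, H.cube H.uR])
      have hG : u ^ 2 * (((κM m : M) : centralizer ({u} : Set G)) : G) =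
          gu * (u * ((m : centralizer ({u} : Set G)) : G)) * gu⁻¹ := by
        show u ^ 2 * (gu * ((m : centralizer ({u} : Set G)) : G) * gu⁻¹) = _
        rw [h2, ← H.gu_u]
        group
      rw [hG]
      exact isClassFunction_irr χ _ gu
    have hs : ∀ (F : M → ℂ) (c : ℂ), ∑ x, F x * (c * conj ((θ : M → ℂ) x)) =
        c * ∑ x, F x * conj ((θ : M → ℂ) x) := fun F c => by
      rw [Finset.mul_sum]; exact Finset.sum_congr rfl fun x _ => by ring
    rw [hs, hs, hswap] at hb
    rw [hswap] at ha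
    have hω : (τ uC : ℂ) ^ 2 + (τ uC : ℂ) + 1 = 0 := by
      have hne : (τ uC : ℂ) - 1 ≠ 0 := sub_ne_zero.2 fun h => hτu (Units.ext h)
      refine (mul_eq_zero.1 ?_).resolve_left hne
      have h3 : (τ uC : ℂ) ^ 3 = 1 := by rw [← Units.val_pow_eq_pow_val, hτ3, Units.val_one]
      linear_combination h3
    have hωc : conj (τ uC : ℂ) ^ 2 + conj (τ uC : ℂ) + 1 = 0 := by
      have := congrArg conj hω
      simpa using this
    rw [inner_def]
    push_cast
    rw [← ha, ← hb]
    field_simp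
    linear_combination (∑ m : M, (χ : G → ℂ) (u * ((m : centralizer ({u} : Set G)) : G)) *
        conj ((θ : M → ℂ) m)) * hωc
  choose! n hn using hcoefn
  have hsum3 : ∀ F : IrrCharacter M → ℂ,
      ∑ θ ∈ Finset.univ.filter (· ∈ principalBlock I M), F θ = F (principal M) + F g + F h := fun F => by
    rw [show Finset.univ.filter (· ∈ principalBlock I M) = {principal M, g, h} by ext θ; simp [hB3],
      Finset.sum_insert (by simp [hgp.symm, hhp.symm]), Finset.sum_insert (by simp [hgh]),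
      Finset.sum_singleton, add_assoc]
  have hfun : ∀ χ ∈ principalBlock I G, ∀ m : M, ¬ 3 ∣ orderOf m →
      (χ : G → ℂ) (u * ((m : centralizer ({u} : Set G)) : G)) =
        (n χ (principal M) : ℂ) + n χ g * (g : M → ℂ) m + n χ h * (h : M → ℂ) m := by
    intro χ hχ m hm
    have hcl : IsClassFunction (centralizer ({u} : Set G))
        (fun c : centralizer ({u} : Set G) => (χ : G → ℂ) (u * c)) :=
      Blocks.isClassFunction_mul_left (z := u) (isClassFunction_irr χ)
    rw [← Blocks.blockPart_irr_of_mem hχ (u * _),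
      Blocks.blockPart_principalBlock_centralizer hI (isClassFunction_irr χ) H.pElt
        (by rwa [hordM]), hpart _ hcl, Blocks.blockPart_apply_eq_sum, hsum3,
      hn χ _ ((hB3 _).2 (Or.inl rfl)), hn χ g hgmem, hn χ h ((hB3 _).2 (Or.inr (Or.inr rfl))),
      principal_apply, mul_one]
  have hs2 : (s : ℂ) * s = 1 := by rcases hs with rfl | rfl <;> norm_num
  have ht2 : (t : ℂ) * t = 1 := by rcases ht with rfl | rfl <;> norm_num
  obtain ⟨φ, hφ⟩ : ∃ φ : centralizer ({u} : Set G) → ℂ,
      ∀ m : M, φ m = (s : ℂ) * (g : M → ℂ) m :=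
    ⟨fun c => (s : ℂ) * (g : M → ℂ) (π c), fun m => by show (s : ℂ) * (g : M → ℂ) (π m) = _; rw [hπ]⟩
  have hφ1 : φ 1 = ((s * (charDegree (g : M → ℂ) : ℤ) : ℤ) : ℂ) := by
    rw [← OneMemClass.coe_one M, hφ, CharApps.deg_eq]; push_cast; ring
  have hval : ∀ χ ∈ principalBlock I G, ∀ y : centralizer ({u} : Set G), ¬ 3 ∣ orderOf y →
      (χ : G → ℂ) (u * y) = ((n χ (principal M) - t * n χ h : ℤ) : ℂ) +
        ((s * n χ g - t * n χ h : ℤ) : ℂ) * φ y := by
    intro χ hχ y hy
    obtain ⟨m, rfl⟩ : ∃ m : M, (m : centralizer ({u} : Set G)) = y := ⟨⟨y, hreg y hy⟩, rfl⟩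
    rw [hordM] at hy
    rw [hfun χ hχ m hy, hφ]
    push_cast
    linear_combination ((n χ h : ℂ) * t) * hrel3 m hy - (n χ h : ℂ) * (h : M → ℂ) m * ht2 -
      (n χ g : ℂ) * (g : M → ℂ) m * hs2
  have hfixφ : ∀ y : centralizer ({u} : Set G), ¬ 3 ∣ orderOf y → ∀ σ : ℂ ≃+* ℂ, σ (φ y) = φ y := by
    intro y hy σ
    obtain ⟨m, rfl⟩ : ∃ m : M, (m : centralizer ({u} : Set G)) = y := ⟨⟨y, hreg y hy⟩, rfl⟩
    rw [hφ, map_mul, map_intCast, ← galoisIrr_apply, hgfix σ]
  have hφne : φ m₀ ≠ φ 1 := by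
    rw [← OneMemClass.coe_one M, hφ, hφ]
    intro h
    refine hgne (mul_left_cancel₀ (fun h0 => ?_) h)
    rw [h0, zero_mul] at hs2
    exact zero_ne_one hs2
  have hconj : ∀ y : centralizer ({u} : Set G), ¬ 3 ∣ orderOf y → conj (φ y) = φ y := fun y hy => by
    obtain ⟨σ, hσ⟩ : ∃ σ : ℂ ≃+* ℂ, ∀ z, σ z = conj z := ⟨Complex.conjAe.toRingEquiv, fun _ => rfl⟩
    rw [← hσ, hfixφ y hy σ]
  -- the Gram matrix
  have hgram : ∀ y y' : centralizer ({u} : Set G), ¬ 3 ∣ orderOf y → ¬ 3 ∣ orderOf y' →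
      ∑ χ ∈ Finset.univ.filter (· ∈ principalBlock I G),
        (χ : G → ℂ) (u * y) * conj ((χ : G → ℂ) (u * y')) =
        3 * (2 + φ y + φ y' + 2 * φ y * φ y') := by
    intro y y' hy hy'
    have hg := section_gram hI H.pElt hy hy'
    rw [finsum_mem_eq_sum_of_inter_support_eq (t := Finset.univ.filter (· ∈ principalBlock I G)) _
      (by ext; simp)] at hg
    rw [hg]
    obtain ⟨m, rfl⟩ : ∃ m : M, (m : centralizer ({u} : Set G)) = y := ⟨⟨y, hreg y hy⟩, rfl⟩
    obtain ⟨m', rfl⟩ : ∃ m' : M, (m' : centralizer ({u} : Set G)) = y' := ⟨⟨y', hreg y' hy'⟩, rfl⟩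
    rw [hordM] at hy hy'
    rw [hpart _ (Blocks.isClassFunction_classInd _)]
    have hind : (fun k : M => Blocks.classInd (m' : centralizer ({u} : Set G)) (k : centralizer ({u} : Set G))) =
        Blocks.classInd m' := by
      funext k
      rw [Blocks.classInd_apply, Blocks.classInd_apply]
      by_cases hk : IsConj m' k
      · rw [if_pos (show IsConj (m' : centralizer ({u} : Set G)) (k : centralizer ({u} : Set G))
          from M.subtype.map_isConj hk), if_pos hk]
      · rw [if_neg ?_, if_neg hk]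
        intro hc
        obtain ⟨c, hc⟩ := isConj_iff.1 hc
        refine hk (isConj_iff.2 ⟨π c, ?_⟩)
        have := congrArg π hc
        simpa [hπ] using this
    have hcard : Nat.card (centralizer ({(m' : centralizer ({u} : Set G))} :
        Set (centralizer ({u} : Set G)))) = 3 * Nat.card (centralizer ({m'} : Set M)) := by
      rw [← Nat.card_fin 3, ← Nat.card_prod]
      refine Nat.card_congr (((e.subtypeEquiv (p := fun p : Fin 3 × M =>
        p.2 ∈ centralizer ({m'} : Set M)) fun p => ?_).symm.trans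
          ⟨fun p => (p.1.1, ⟨p.1.2, p.2⟩), fun p => ⟨(p.1, p.2.1), p.2.2⟩, fun _ => rfl, fun _ => rfl⟩))
      rw [mem_centralizer_singleton_iff, mem_centralizer_singleton_iff]
      show p.2 * m' = m' * p.2 ↔ uC ^ (p.1 : ℕ) * (p.2 : centralizer ({u} : Set G)) * _ =
        _ * (uC ^ (p.1 : ℕ) * _)
      rw [← mul_assoc (m' : centralizer ({u} : Set G)), ((hcen _).pow_right _).eq, mul_assoc,
        mul_assoc, mul_right_inj, ← Subgroup.coe_mul, ← Subgroup.coe_mul, SetLike.coe_eq_coe]
    rw [hind, Blocks.blockPart_classInd, hcard,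
      finsum_mem_eq_sum_of_inter_support_eq (t := Finset.univ.filter (· ∈ principalBlock I M)) _
        (by ext; simp), hsum3, hφ, hφ]
    have hc0 : (Nat.card (centralizer ({m'} : Set M)) : ℂ) ≠ 0 := Nat.cast_ne_zero.2 Nat.card_pos.ne'
    have hreal : conj ((g : M → ℂ) m') = (g : M → ℂ) m' := by
      obtain ⟨σ, hσ⟩ : ∃ σ : ℂ ≃+* ℂ, ∀ z, σ z = conj z := ⟨Complex.conjAe.toRingEquiv, fun _ => rfl⟩
      rw [← hσ, ← galoisIrr_apply, hgfix σ]
    have hh : ∀ k : M, ¬ 3 ∣ orderOf k → (h : M → ℂ) k = -(t : ℂ) * (1 + s * (g : M → ℂ) k) :=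
      fun k hk => by linear_combination (t : ℂ) * hrel3 k hk - (h : M → ℂ) k * ht2
    rw [hh m hy, hh m' hy', principal_apply, principal_apply, map_one, one_mul, hreal, map_mul,
      map_neg, map_add, map_one, map_mul, map_intCast, map_intCast, hreal, Nat.cast_mul,
      Nat.cast_ofNat]
    field_simp
    linear_combination ((1 + (s : ℂ) * (g : M → ℂ) m) * (1 + (s : ℂ) * (g : M → ℂ) m')) * ht2 -
      ((g : M → ℂ) m * (g : M → ℂ) m') * hs2
  obtain ⟨α, hα⟩ : ∃ α : IrrCharacter G → ℤ, ∀ χ, α χ = n χ (principal M) - t * n χ h :=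
    ⟨_, fun _ => rfl⟩
  obtain ⟨β, hβ⟩ : ∃ β : IrrCharacter G → ℤ, ∀ χ, β χ = s * n χ g - t * n χ h := ⟨_, fun _ => rfl⟩
  simp only [← hα, ← hβ] at hval
  have h10 : ¬ 3 ∣ orderOf (1 : centralizer ({u} : Set G)) := by simp
  have hm₀' : ¬ 3 ∣ orderOf (m₀ : centralizer ({u} : Set G)) := by rwa [hordM]
  have hp := Blocks.principal_mem_principalBlock (G := G) I
  obtain ⟨hαp, hβp⟩ : (α (principal G) : ℂ) - 1 = 0 ∧ (β (principal G) : ℂ) = 0 :=
    solve_two hφne
      (by have := hval _ hp 1 h10; rw [principal_apply] at this; linear_combination -this)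
      (by have := hval _ hp _ hm₀'; rw [principal_apply] at this; linear_combination -this)
  have hG4 : ∀ y y' : centralizer ({u} : Set G), ¬ 3 ∣ orderOf y → ¬ 3 ∣ orderOf y' →
      (((∑ χ ∈ Finset.univ.filter (· ∈ principalBlock I G), α χ * α χ : ℤ) : ℂ) - 6) +
        (((∑ χ ∈ Finset.univ.filter (· ∈ principalBlock I G), α χ * β χ : ℤ) : ℂ) - 3) * (φ y + φ y') +
        (((∑ χ ∈ Finset.univ.filter (· ∈ principalBlock I G), β χ * β χ : ℤ) : ℂ) - 6) * φ y * φ y' = 0 := by
    intro y y' hy hy'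
    have h := hgram y y' hy hy'
    rw [Finset.sum_congr rfl (g := fun χ => (α χ : ℂ) * α χ + (α χ : ℂ) * β χ * (φ y + φ y') +
        (β χ : ℂ) * β χ * (φ y * φ y')) fun χ hχ => by
      rw [hval χ (Finset.mem_filter.1 hχ).2 y hy, hval χ (Finset.mem_filter.1 hχ).2 y' hy', map_add,
        map_mul, map_intCast, map_intCast, hconj y' hy']
      ring] at h
    rw [Finset.sum_add_distrib, Finset.sum_add_distrib, ← Finset.sum_mul, ← Finset.sum_mul] at h
    push_cast
    linear_combination h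
  have e11 := hG4 1 1 h10 h10
  have e12 := hG4 1 _ h10 hm₀'
  have e22 := hG4 _ _ hm₀' hm₀'
  obtain ⟨a1, a2, a3⟩ := solve_three hφne e11 e12 e22
  exact ⟨⟨α, β, φ, hval, hfixφ, m₀, hm₀', hφne, _, hφ1, hgmod,
    by exact_mod_cast sub_eq_zero.1 hαp, by exact_mod_cast hβp,
    by exact_mod_cast sub_eq_zero.1 a1, by exact_mod_cast sub_eq_zero.1 a2,
    by exact_mod_cast sub_eq_zero.1 a3⟩⟩

end CfsgLib.CharsMore.NinePrimes
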