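import Mathlib
import Cfsg.Agent.S4710
import Cfsg.Agent.Lib.Blocks.NilpotentSections
import Cfsg.Agent.Lib.CharApps.PrimeClassBound
import Cfsg.Agent.Lib.CharsMore.NinePrimes.Free
import Cfsg.Agent.Lib.CharsMore.NinePrimes.Pattern
import Cfsg.Agent.Lib.CharsMore.NinePrimes.Side

/-!
# The four group action does not occur in a simple group of order `9 · 2^a q^b`
-/

set_option autoImplicit false
set_option linter.style.haveILetI false
set_option linter.unusedSectionVars false

namespace CfsgLib.CharsMore.NinePrimes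

open Cfsg CfsgLib CfsgLib.Chars CfsgLib.CharApps Subgroup
open scoped ComplexConjugate

universe u

variable {G : Type u} [Group G]

/-- Conjugate products have conjugate `p`-parts. -/
theorem isConj_of_parts [Finite G] {p : ℕ} [Fact p.Prime] {z z' : G} (hz : ∃ k, orderOf z = p ^ k)
    (hz' : ∃ k, orderOf z' = p ^ k) {c c' : G} (hc : ¬ p ∣ orderOf c) (hc' : ¬ p ∣ orderOf c')
    (hcomm : Commute z c) (hcomm' : Commute z' c') (h : IsConj (z' * c') (z * c)) : IsConj z' z := by
  obtain ⟨g, hg⟩ := isConj_iff.1 h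
  have h1 : BlockOrth.IsPPrimePart p (z' * c') c' := ⟨z', rfl, hcomm', hz', hc'⟩
  have h2 := h1.conj g
  rw [hg] at h2
  have h3 : g * c' * g⁻¹ = c := h2.unique ⟨z, rfl, hcomm, hz, hc⟩
  refine isConj_iff.2 ⟨g, ?_⟩
  calc g * z' * g⁻¹ = g * (z' * c') * g⁻¹ * (g * c' * g⁻¹)⁻¹ := by group
    _ = z := by rw [hg, h3, mul_inv_cancel_right]

variable [Fintype G]

open scoped _root_.Classical in
/-- Orthogonality of the columns of two sections. -/
theorem section_orth_parts {I : Ideal AlgInt} (hI : IsPModular 3 I) [Fintype (IrrCharacter G)]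
    {z z' : G} (hz : ∃ k, orderOf z = 3 ^ k) (hz' : ∃ k, orderOf z' = 3 ^ k) (hne : ¬ IsConj z' z)
    {y : centralizer ({z} : Set G)} (hy : ¬ 3 ∣ orderOf y) {c' : G} (hc' : ¬ 3 ∣ orderOf c')
    (hcomm' : Commute z' c') :
    ∑ x : {χ : IrrCharacter G // χ ∈ principalBlock I G},
      (x.1 : G → ℂ) (z * y) * conj ((x.1 : G → ℂ) (z' * c')) = 0 := by
  haveI := Fact.mk Nat.prime_three
  haveI := Fintype.ofFinite (centralizer ({z} : Set G))
  have h := section_orth hI hz hy (g := z' * c') fun c hc hconj => hne (isConj_of_parts hz hz'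
    (by rwa [Subgroup.orderOf_coe]) hc'
    (mem_centralizer_singleton_iff.1 c.2 : _ = _).symm hcomm' hconj)
  rw [finsum_mem_eq_sum_of_inter_support_eq (t := Finset.univ.filter (· ∈ principalBlock I G)) _
    (by ext; simp), Finset.sum_subtype (p := (· ∈ principalBlock I G)) _ (by simp)] at h
  exact h

theorem conj_of_fixed {x : ℂ} (h : ∀ σ : ℂ ≃+* ℂ, σ x = x) : conj x = x := by
  obtain ⟨σ, hσ⟩ : ∃ σ : ℂ ≃+* ℂ, ∀ z, σ z = conj z := ⟨Complex.conjAe.toRingEquiv, fun _ => rfl⟩
  rw [← hσ, h σ]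

namespace FourGroup

variable {R : Sylow 3 G} {u v gu gv : G} (H : FourGroup R u v gu gv)
include H

theorem le_centralizer : (R : Subgroup G) ≤ centralizer ((R : Subgroup G) : Set G) := fun x hx =>
  mem_centralizer_iff.2 fun y hy => H.comm y hy x hx

theorem exists_norm {x y : G} (hx : x ∈ (R : Subgroup G)) (hy : y ∈ (R : Subgroup G))
    (h : IsConj x y) : ∃ n ∈ normalizer ((R : Subgroup G) : Set G), n * x * n⁻¹ = y := by
  haveI := Fact.mk Nat.prime_three
  obtain ⟨g, hg⟩ := isConj_iff.1 h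
  exact Transfer.exists_mem_normalizer_conj R (H.le_centralizer hx) (H.le_centralizer hy) hg

theorem not_isConj_uv : ¬ IsConj u v := fun h => by
  obtain ⟨n, hn, e⟩ := H.exists_norm H.uR H.vR h
  rcases (H.act n hn).1 with e' | e' <;> rw [e'] at e
  · exact H.hne (e ▸ mem_zpowers v)
  · exact H.hne (inv_mem_iff.1 (e ▸ mem_zpowers v))

theorem not_isConj_uw : ¬ IsConj u (u * v) := fun h => by
  obtain ⟨n, hn, e⟩ := H.exists_norm H.uR (mul_mem H.uR H.vR) h
  rcases (H.act n hn).1 with e' | e' <;> rw [e'] at e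
  · rw [left_eq_mul] at e
    exact absurd (e ▸ H.hv) (by rw [orderOf_one]; norm_num)
  · exact H.symm.hne (by
      rw [show v = u⁻¹ * u⁻¹ from eq_inv_mul_of_mul_eq e.symm]
      exact mul_mem (inv_mem (mem_zpowers u)) (inv_mem (mem_zpowers u)))

theorem w_ne : u * v ≠ 1 := fun e => H.hne (by
  rw [eq_inv_of_mul_eq_one_left e]; exact inv_mem (mem_zpowers v))

theorem w_order : orderOf (u * v) = 3 :=
  haveI := Fact.mk Nat.prime_three
  orderOf_eq_prime (H.cube (mul_mem H.uR H.vR)) H.w_ne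

theorem centralizer_w : HasNormalPComplement 3 (centralizer ({u * v} : Set G)) := by
  haveI := Fact.mk Nat.prime_three
  have hle : (R : Subgroup G) ≤ centralizer ({u * v} : Set G) := fun x hx =>
    mem_centralizer_singleton_iff.2 (H.comm x hx _ (mul_mem H.uR H.vR))
  refine Transfer.hasNormalPComplement_of_normalizer_le_centralizer (R.subtype hle) fun c hc => ?_
  have hcN : (c : G) ∈ normalizer ((R : Subgroup G) : Set G) :=
    Subgroup.mem_normalizer_iff.2 fun x => ⟨fun hx => by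
      have := (Subgroup.mem_normalizer_iff.1 hc (⟨x, hle hx⟩ : centralizer ({u * v} : Set G))).1
        (by simpa [Sylow.coe_subtype, mem_subgroupOf] using hx)
      simpa [Sylow.coe_subtype, mem_subgroupOf] using this, fun hx => by
      have h2 := (Subgroup.mem_normalizer_iff.1 (inv_mem hc)
        (⟨(c : G) * x * (c : G)⁻¹, hle hx⟩ : centralizer ({u * v} : Set G))).1
        (by simpa [Sylow.coe_subtype, mem_subgroupOf] using hx)
      simpa [Sylow.coe_subtype, mem_subgroupOf, mul_assoc] using h2⟩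
  obtain ⟨a, b⟩ := H.act c hcN
  have hw : ((c : G) * u * (c : G)⁻¹) * ((c : G) * v * (c : G)⁻¹) = u * v := by
    have h := mul_inv_eq_iff_eq_mul.2 (mem_centralizer_singleton_iff.1 c.2)
    exact (show (c : G) * u * (c : G)⁻¹ * ((c : G) * v * (c : G)⁻¹) = (c : G) * (u * v) * (c : G)⁻¹ by
      group).trans h
  have hC : (c : G) ∈ centralizer ((R : Subgroup G) : Set G) := by
    rcases a with a | a <;> rcases b with b | b <;> rw [a, b] at hw
    · exact H.centralizes a b
    · exact absurd (mul_left_cancel hw) H.symm.u_inv_ne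
    · exact absurd (mul_right_cancel hw) H.u_inv_ne
    · exfalso
      have h2 : (u * v) * (u * v) = 1 := by
        nth_rewrite 1 [← hw]
        rw [show u⁻¹ * v⁻¹ = v⁻¹ * u⁻¹ from
          H.comm _ (inv_mem H.uR) _ (inv_mem H.vR)]
        group
      have := orderOf_dvd_of_pow_eq_one (show (u * v) ^ 2 = 1 by rw [sq, h2])
      rw [H.w_order] at this
      norm_num at this
  refine mem_centralizer_iff.2 fun x hx => Subtype.ext ?_
  have hxR : x ∈ ((R.subtype hle : Sylow 3 _) : Subgroup (centralizer ({u * v} : Set G))) :=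
    SetLike.mem_coe.1 hx
  rw [Sylow.coe_subtype, mem_subgroupOf] at hxR
  exact mem_centralizer_iff.1 hC (x : G) hxR

theorem factorization_eq : (Nat.card G).factorization 3 = 2 := by
  haveI := Fact.mk Nat.prime_three
  have h := R.card_eq_multiplicity
  rw [H.card, show (9 : ℕ) = 3 ^ 2 by norm_num] at h
  exact (Nat.pow_right_injective (by norm_num) h).symm

theorem centralizer_w_factorization :
    (Nat.card (centralizer ({u * v} : Set G))).factorization 3 = 2 := by
  haveI := Fact.mk Nat.prime_three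
  refine le_antisymm (H.factorization_eq ▸ (Nat.factorization_le_iff_dvd Nat.card_pos.ne'
    Nat.card_pos.ne').2 (Subgroup.card_subgroup_dvd_card _) 3) ?_
  refine (Nat.prime_three.pow_dvd_iff_le_factorization Nat.card_pos.ne').1 ?_
  rw [show (3 : ℕ) ^ 2 = Nat.card (R : Subgroup G) from H.card.symm]
  exact Subgroup.card_dvd_of_le fun x hx =>
    mem_centralizer_singleton_iff.2 (H.comm x hx _ (mul_mem H.uR H.vR))

theorem exists_int_w (χ : IrrCharacter G) :
    ∃ c : ℤ, (c : ℂ) = (χ : G → ℂ) (u * v) ∧ (3 : ℤ) ∣ c - charDegree (χ : G → ℂ) := by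
  haveI := Fact.mk Nat.prime_three
  refine exists_int_of_rational (q := 3) χ H.w_order fun j hj hj0 => ?_
  obtain rfl | rfl : j = 1 ∨ j = 2 := by omega
  · rw [pow_one]
  · refine IsConj.symm (isConj_iff.2 ⟨gu * gv, ?_⟩)
    rw [(show Commute u v from H.comm u H.uR v H.vR).mul_pow, sq u, sq v,
      show u * u = u⁻¹ from eq_inv_of_mul_eq_one_left (by rw [← sq, ← pow_succ, H.cube H.uR]),
      show v * v = v⁻¹ from eq_inv_of_mul_eq_one_left (by rw [← sq, ← pow_succ, H.cube H.vR])]
    calc gu * gv * (u * v) * (gu * gv)⁻¹ =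
        (gu * (gv * u * gv⁻¹) * gu⁻¹) * (gu * (gv * v * gv⁻¹) * gu⁻¹) := by group
      _ = u⁻¹ * (gu * v * gu⁻¹)⁻¹ := by rw [H.gv_u, H.gv_v, H.gu_u]; group
      _ = u⁻¹ * v⁻¹ := by rw [H.gu_v]

theorem exists_int_u (χ : IrrCharacter G) :
    ∃ c : ℤ, (c : ℂ) = (χ : G → ℂ) u ∧ (3 : ℤ) ∣ c - charDegree (χ : G → ℂ) := by
  haveI := Fact.mk Nat.prime_three
  refine exists_int_of_rational (q := 3) χ H.hu fun j hj hj0 => ?_
  obtain rfl | rfl : j = 1 ∨ j = 2 := by omega
  · rw [pow_one]
  · refine IsConj.symm (isConj_iff.2 ⟨gu, ?_⟩)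
    rw [H.gu_u, sq]
    exact (eq_inv_of_mul_eq_one_left (by rw [← sq, ← pow_succ, H.cube H.uR])).symm

end FourGroup

open scoped _root_.Classical in
theorem Side.mod [Fintype (IrrCharacter G)] {R : Sylow 3 G} {u v gu gv : G}
    (H : FourGroup R u v gu gv) {I : Ideal AlgInt} (S : Side I u) {χ : IrrCharacter G}
    (hχ : χ ∈ principalBlock I G) :
    (3 : ℤ) ∣ (charDegree (χ : G → ℂ) : ℤ) - (S.α χ + S.β χ) := by
  obtain ⟨c, hc, hcd⟩ := H.exists_int_u χ
  have h := S.val χ hχ 1 (by simp)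
  rw [Subgroup.coe_one, mul_one, S.φ_one, ← hc] at h
  have h' : c = S.α χ + S.β χ * S.d := by exact_mod_cast h
  obtain ⟨k, hk⟩ := S.d_mod
  obtain ⟨l, hl⟩ := hcd
  refine ⟨-l + S.β χ * k, ?_⟩
  linear_combination (S.β χ) * hk - hl + h'

open scoped _root_.Classical in
/-- Galois conjugates in the block have the same coefficients. -/
theorem Side.galois [Fintype (IrrCharacter G)] {u : G} {I : Ideal AlgInt} (hI : IsPModular 3 I)
    (S : Side I u) {χ : IrrCharacter G} (hχ : χ ∈ principalBlock I G) (σ : ℂ ≃+* ℂ) :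
    S.α (galoisIrr σ χ) = S.α χ ∧ S.β (galoisIrr σ χ) = S.β χ := by
  haveI := Fact.mk Nat.prime_three
  haveI : I.IsPrime := hI.2.1.isPrime
  have hσ := (galoisIrr_mem_principalBlock (p := 3) hI.2.2 σ χ).2 hχ
  have key : ∀ y, ¬ 3 ∣ orderOf y →
      ((S.α (galoisIrr σ χ) : ℂ) - S.α χ) + ((S.β (galoisIrr σ χ) : ℂ) - S.β χ) * S.φ y = 0 := by
    intro y hy
    have h1 := S.val _ hσ y hy
    rw [galoisIrr_apply, S.val χ hχ y hy, map_add, map_mul, map_intCast, map_intCast,
      S.fixed y hy σ] at h1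
    linear_combination -h1
  obtain ⟨h1, h2⟩ := solve_two S.φ_ne (key 1 (by simp)) (key _ S.y₀_reg)
  exact ⟨by exact_mod_cast sub_eq_zero.1 h1, by exact_mod_cast sub_eq_zero.1 h2⟩

theorem type_injective {i j : Fin 3} {c : ℤ} (hc : c ≠ 0) (ha : c * typeA i = c * typeA j)
    (hb : c * typeB i = c * typeB j) : i = j := by
  have ha' := mul_left_cancel₀ hc ha
  have hb' := mul_left_cancel₀ hc hb
  fin_cases i <;> fin_cases j <;> simp [typeA, typeB] at ha' hb' ⊢

open scoped _root_.Classical in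
theorem four_group_false [IsSimpleGroup G] (hG : ¬ IsMulCommutative G) {q a b : ℕ} (hq : q.Prime)
    (hq2 : q ≠ 2) (hq3 : q ≠ 3) (hcard : Nat.card G = 9 * 2 ^ a * q ^ b) {R : Sylow 3 G}
    {u v gu gv : G} (H : FourGroup R u v gu gv) : False := by
  haveI := Fact.mk Nat.prime_three
  haveI := irrFintype G
  obtain ⟨I, hI⟩ := exists_pModular 3
  haveI : I.IsPrime := hI.2.1.isPrime
  obtain ⟨S⟩ := H.exists_side hI
  obtain ⟨T⟩ := H.symm.exists_side hI
  choose C hC hCmod using fun χ => H.exists_int_w χ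
  have hp := Blocks.principal_mem_principalBlock (G := G) I
  have hwp : ∃ k, orderOf (u * v) = 3 ^ k := ⟨1, by rw [pow_one, H.w_order]⟩
  -- degrees in the block are prime to three
  have hd3 : ∀ χ ∈ principalBlock I G, ¬ 3 ∣ charDegree (χ : G → ℂ) := by
    intro χ hχ h
    have hmin : sInf ((fun ψ : IrrCharacter G => (charDegree (ψ : G → ℂ)).factorization 3) ''
        principalBlock I G) = 0 := by
      refine Nat.sInf_eq_zero.2 (Or.inl ⟨principal G, hp, ?_⟩)
      dsimp only
      rw [(CharApps.deg_eq_one_iff (principal G)).mp (principal_apply 1)]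
      simp
    have hdef : blockDefect 3 (principalBlock I G) = 2 := by
      rw [blockDefect, hmin, H.factorization_eq]
    have h0 := ((Agent.S4710.result 3 I hI _ (Blocks.isPBlock_principalBlock I) 2 hdef).2 χ hχ).2
      le_rfl
    rw [blockHeight, hmin] at h0
    have := (Nat.prime_three.dvd_iff_one_le_factorization (CharApps.deg_pos χ).ne').1 h
    omega
  -- sums over the block
  have hsum : ∀ F : IrrCharacter G → ℤ, ∑ x : {χ : IrrCharacter G // χ ∈ principalBlock I G}, F x.1 =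
      ∑ χ ∈ Finset.univ.filter (· ∈ principalBlock I G), F χ := fun F =>
    (Finset.sum_subtype (p := (· ∈ principalBlock I G)) _ (by simp) F).symm
  have hw1 : ∀ y, ¬ 3 ∣ orderOf y → ∀ x : {χ : IrrCharacter G // χ ∈ principalBlock I G},
      conj ((x.1 : G → ℂ) (u * ((y : centralizer ({u} : Set G)) : G))) =
        (S.α x.1 : ℂ) + (S.β x.1 : ℂ) * S.φ y := fun y hy x => by
    rw [S.val x.1 x.2 y hy, map_add, map_mul, map_intCast, map_intCast,
      conj_of_fixed (S.fixed y hy)]
  have hv1 : ∀ y, ¬ 3 ∣ orderOf y → ∀ x : {χ : IrrCharacter G // χ ∈ principalBlock I G},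
      conj ((x.1 : G → ℂ) (v * ((y : centralizer ({v} : Set G)) : G))) =
        (T.α x.1 : ℂ) + (T.β x.1 : ℂ) * T.φ y := fun y hy x => by
    rw [T.val x.1 x.2 y hy, map_add, map_mul, map_intCast, map_intCast,
      conj_of_fixed (T.fixed y hy)]
  -- two separated coefficient sums
  have split : ∀ (F : {χ : IrrCharacter G // χ ∈ principalBlock I G} → ℂ) {t : G} (U : Side I t),
      (∀ y, ¬ 3 ∣ orderOf y → ∑ x, F x * ((U.α x.1 : ℂ) + (U.β x.1 : ℂ) * U.φ y) = 0) →
      (∑ x, (U.α x.1 : ℂ) * F x = 0) ∧ ∑ x, (U.β x.1 : ℂ) * F x = 0 := by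
    intro F t U hU
    have key : ∀ y, ¬ 3 ∣ orderOf y →
        (∑ x, (U.α x.1 : ℂ) * F x) + (∑ x, (U.β x.1 : ℂ) * F x) * U.φ y = 0 := fun y hy => by
      rw [← hU y hy, Finset.sum_mul, ← Finset.sum_add_distrib]
      exact Finset.sum_congr rfl fun x _ => by ring
    exact solve_two U.φ_ne (key 1 (by simp)) (key _ U.y₀_reg)
  -- orthogonality to the regular elements
  have hreg : ∀ g : G, ¬ 3 ∣ orderOf g →
      (∑ x : {χ : IrrCharacter G // χ ∈ principalBlock I G}, (C x.1 : ℂ) * conj ((x.1 : G → ℂ) g) = 0) ∧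
      ((∑ x : {χ : IrrCharacter G // χ ∈ principalBlock I G}, (S.α x.1 : ℂ) * conj ((x.1 : G → ℂ) g) = 0) ∧
      ∑ x : {χ : IrrCharacter G // χ ∈ principalBlock I G}, (S.β x.1 : ℂ) * conj ((x.1 : G → ℂ) g) = 0) ∧
      ((∑ x : {χ : IrrCharacter G // χ ∈ principalBlock I G}, (T.α x.1 : ℂ) * conj ((x.1 : G → ℂ) g) = 0) ∧
      ∑ x : {χ : IrrCharacter G // χ ∈ principalBlock I G}, (T.β x.1 : ℂ) * conj ((x.1 : G → ℂ) g) = 0) := by
    intro g hg
    have h1 : ∀ {z : G}, z ≠ 1 → ¬ IsConj (1 : G) z := fun hz h => hz (isConj_one_right.1 h)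
    have hone : ∃ k, orderOf (1 : G) = 3 ^ k := ⟨0, by simp⟩
    refine ⟨?_, split _ S fun y hy => ?_, split _ T fun y hy => ?_⟩
    · have h := section_orth_parts hI hwp hone (h1 H.w_ne) (y := 1) (by simp) hg (Commute.one_left g)
      simpa only [Subgroup.coe_one, mul_one, one_mul, ← hC] using h
    · have h := section_orth_parts hI H.pElt hone (h1 H.u_ne) hy hg (Commute.one_left g)
      simp only [one_mul] at h
      rw [← h]
      exact Finset.sum_congr rfl fun x _ => by rw [S.val x.1 x.2 y hy]; ring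
    · have h := section_orth_parts hI H.symm.pElt hone (h1 H.symm.u_ne) hy hg (Commute.one_left g)
      simp only [one_mul] at h
      rw [← h]
      exact Finset.sum_congr rfl fun x _ => by rw [T.val x.1 x.2 y hy]; ring
  -- orthogonality between the sections
  have hcS : (∑ x : {χ : IrrCharacter G // χ ∈ principalBlock I G}, (S.α x.1 : ℂ) * (C x.1 : ℂ) = 0) ∧
      ∑ x : {χ : IrrCharacter G // χ ∈ principalBlock I G}, (S.β x.1 : ℂ) * (C x.1 : ℂ) = 0 := by
    refine split _ S fun y hy => ?_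
    have h := section_orth_parts hI H.pElt hwp (fun h => H.not_isConj_uw h.symm) hy
      (c' := 1) (by simp) (Commute.one_right _)
    simp only [mul_one, ← hC, map_intCast] at h
    rw [← h]
    exact Finset.sum_congr rfl fun x _ => by rw [S.val x.1 x.2 y hy]; ring
  have hcT : (∑ x : {χ : IrrCharacter G // χ ∈ principalBlock I G}, (T.α x.1 : ℂ) * (C x.1 : ℂ) = 0) ∧
      ∑ x : {χ : IrrCharacter G // χ ∈ principalBlock I G}, (T.β x.1 : ℂ) * (C x.1 : ℂ) = 0 := by
    refine split _ T fun y hy => ?_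
    have h := section_orth_parts hI H.symm.pElt hwp
      (fun h => H.symm.not_isConj_uw (by rw [H.comm v H.vR u H.uR]; exact h.symm)) hy
      (c' := 1) (by simp) (Commute.one_right _)
    simp only [mul_one, ← hC, map_intCast] at h
    rw [← h]
    exact Finset.sum_congr rfl fun x _ => by rw [T.val x.1 x.2 y hy]; ring
  have hST : ∀ y' : centralizer ({v} : Set G), ¬ 3 ∣ orderOf y' →
      (∑ x : {χ : IrrCharacter G // χ ∈ principalBlock I G},
        (S.α x.1 : ℂ) * ((T.α x.1 : ℂ) + (T.β x.1 : ℂ) * T.φ y') = 0) ∧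
      ∑ x : {χ : IrrCharacter G // χ ∈ principalBlock I G},
        (S.β x.1 : ℂ) * ((T.α x.1 : ℂ) + (T.β x.1 : ℂ) * T.φ y') = 0 := by
    intro y' hy'
    refine split _ S fun y hy => ?_
    have h := section_orth_parts hI H.pElt H.symm.pElt (fun h => H.not_isConj_uv h.symm) hy
      (c' := (y' : G)) (by rwa [Subgroup.orderOf_coe])
      (mem_centralizer_singleton_iff.1 y'.2 : _ = _).symm
    rw [← h]
    exact Finset.sum_congr rfl fun x _ => by rw [hv1 y' hy' x, S.val x.1 x.2 y hy]; ring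
  obtain ⟨xaa, xab⟩ := split (fun x => (S.α x.1 : ℂ)) T fun y hy => (hST y hy).1
  obtain ⟨xba, xbb⟩ := split (fun x => (S.β x.1 : ℂ)) T fun y hy => (hST y hy).2
  have hcc : ∑ x : {χ : IrrCharacter G // χ ∈ principalBlock I G}, C x.1 * C x.1 = 9 := by
    have h := Blocks.column_norm_of_complement hI hwp H.centralizer_w
    rw [H.centralizer_w_factorization, finsum_mem_eq_sum_of_inter_support_eq
      (t := Finset.univ.filter (· ∈ principalBlock I G)) _ (by ext; simp)] at h
    simp only [← hC, map_intCast] at h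
    rw [hsum fun χ => C χ * C χ]
    exact_mod_cast h
  have amod : ∀ x : {χ : IrrCharacter G // χ ∈ principalBlock I G},
      (3 : ℤ) ∣ C x.1 - (S.α x.1 + S.β x.1) := fun x => by
    have h1 := S.mod H x.2
    have h2 := hCmod x.1
    omega
  have amod' : ∀ x : {χ : IrrCharacter G // χ ∈ principalBlock I G},
      (3 : ℤ) ∣ C x.1 - (T.α x.1 + T.β x.1) := fun x => by
    have h1 := T.mod H.symm x.2
    have h2 := hCmod x.1
    omega
  have hCp : C (principal G) = 1 := by
    have h := hC (principal G)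
    rw [principal_apply] at h
    exact_mod_cast h
  let K : Columns {χ : IrrCharacter G // χ ∈ principalBlock I G} ⟨principal G, hp⟩ :=
    { c := fun x => C x.1, a := fun x => S.α x.1, b := fun x => S.β x.1
      a' := fun x => T.α x.1, b' := fun x => T.β x.1
      cp := hCp, ap := S.αp, bp := S.βp, ap' := T.αp, bp' := T.βp
      cc := hcc
      aa := (hsum fun χ => S.α χ * S.α χ).trans S.aa
      ab := (hsum fun χ => S.α χ * S.β χ).trans S.ab
      bb := (hsum fun χ => S.β χ * S.β χ).trans S.bb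
      aa' := (hsum fun χ => T.α χ * T.α χ).trans T.aa
      ab' := (hsum fun χ => T.α χ * T.β χ).trans T.ab
      bb' := (hsum fun χ => T.β χ * T.β χ).trans T.bb
      ca := by
        rw [Finset.sum_congr rfl fun x _ => mul_comm _ _]; exact_mod_cast hcS.1
      cb := by
        rw [Finset.sum_congr rfl fun x _ => mul_comm _ _]; exact_mod_cast hcS.2
      ca' := by
        rw [Finset.sum_congr rfl fun x _ => mul_comm _ _]; exact_mod_cast hcT.1
      cb' := by
        rw [Finset.sum_congr rfl fun x _ => mul_comm _ _]; exact_mod_cast hcT.2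
      xaa := by
        rw [Finset.sum_congr rfl fun x _ => mul_comm _ _]; exact_mod_cast xaa
      xab := by
        rw [Finset.sum_congr rfl fun x _ => mul_comm _ _]; exact_mod_cast xab
      xba := by
        rw [Finset.sum_congr rfl fun x _ => mul_comm _ _]; exact_mod_cast xba
      xbb := by
        rw [Finset.sum_congr rfl fun x _ => mul_comm _ _]; exact_mod_cast xbb
      cmod := fun x h => hd3 x.1 x.2 (by
        have h2 := hCmod x.1
        omega)
      amod := amod, amod' := amod' }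
  by_cases h6 : Fintype.card {χ : IrrCharacter G // χ ∈ principalBlock I G} ≤ 6
  · -- a regular element in the kernel
    haveI := Fact.mk Nat.prime_two
    have ha : 2 ∣ Nat.card G := by
      rcases Nat.eq_zero_or_pos a with rfl | ha
      · exact absurd (SmallTriple.two_primes_false hG Nat.prime_three hq (i := 2) (j := b)
          (by rw [hcard]; norm_num)) id
      · exact hcard ▸ dvd_mul_of_dvd_left (dvd_mul_of_dvd_right (dvd_pow_self 2 ha.ne') 9) _
    obtain ⟨z, hz⟩ := exists_prime_orderOf_dvd_card' 2 ha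
    have hz3 : ¬ 3 ∣ orderOf z := by rw [hz]; norm_num
    have h10 : ¬ 3 ∣ orderOf (1 : G) := by simp
    obtain ⟨g1, ⟨g2, g3⟩, g4, g5⟩ := hreg z hz3
    obtain ⟨o1, ⟨o2, o3⟩, o4, o5⟩ := hreg 1 h10
    have hD : ∀ f : {χ : IrrCharacter G // χ ∈ principalBlock I G} → ℂ,
        ∑ x, f x * conj ((x.1 : G → ℂ) z) = 0 → ∑ x, f x * conj ((x.1 : G → ℂ) 1) = 0 →
        ∑ x, f x * (conj ((x.1 : G → ℂ) z) - conj ((x.1 : G → ℂ) 1)) = 0 := fun f e1 e2 => by
      rw [Finset.sum_congr rfl fun x _ => mul_sub _ _ _, Finset.sum_sub_distrib, e1, e2, sub_zero]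
    have hzero := K.eq_zero_of_card_le h6
      (fun x => conj ((x.1 : G → ℂ) z) - conj ((x.1 : G → ℂ) 1))
      (by simp [principal_apply]) (hD _ g1 o1) (hD _ g2 o2) (hD _ g3 o3) (hD _ g4 o4) (hD _ g5 o5)
    obtain ⟨χ, hχ, hne⟩ : ∃ χ ∈ principalBlock I G, χ ≠ principal G := by
      by_contra hno
      push Not at hno
      have h := S.aa
      rw [Finset.sum_eq_single (principal G) (fun χ hχ hne =>
        absurd (hno χ (Finset.mem_filter.1 hχ).2) hne) (fun h => absurd (by simp [hp]) h), S.αp] at h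
      norm_num at h
    have h := congrFun hzero ⟨χ, hχ⟩
    simp only [Pi.zero_apply, sub_eq_zero] at h
    have := SmallTriple.faithful hG hne z ((starRingEnd ℂ).injective h)
    rw [this, orderOf_one] at hz
    norm_num at hz
  · obtain ⟨τ, hτ0, hc1, hτ⟩ := K.exists_types (by omega)
    obtain ⟨X, hX⟩ : ∃ X : Fin 3 → Fin 3 → ℤ,
        ∀ i j, X i j = C (τ (i, j)).1 * (charDegree ((τ (i, j)).1 : G → ℂ) : ℤ) := ⟨_, fun _ _ => rfl⟩
    have hC1 : ∀ x : {χ : IrrCharacter G // χ ∈ principalBlock I G}, C x.1 = 1 ∨ C x.1 = -1 := hc1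
    have h00 : X 0 0 = 1 := by
      rw [hX, hτ0, hCp, (CharApps.deg_eq_one_iff (principal G)).mp (principal_apply 1)]
      norm_num
    have hlin : ∀ f : {χ : IrrCharacter G // χ ∈ principalBlock I G} → ℤ,
        ∑ x, (f x : ℂ) * conj ((x.1 : G → ℂ) 1) = 0 →
        ∑ i, ∑ j, f (τ (i, j)) * (charDegree ((τ (i, j)).1 : G → ℂ) : ℤ) = 0 := fun f hf => by
      rw [← Fintype.sum_prod_type' (f := fun i j =>
        f (τ (i, j)) * (charDegree ((τ (i, j)).1 : G → ℂ) : ℤ))]
      rw [τ.sum_comp fun x => f x * (charDegree (x.1 : G → ℂ) : ℤ)]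
      simp only [CharApps.deg_eq, map_natCast] at hf
      exact_mod_cast hf
    obtain ⟨o1, ⟨o2, o3⟩, o4, o5⟩ := hreg 1 (by simp)
    have l1 := hlin (fun x => C x.1) o1
    have l2 := hlin (fun x => S.α x.1) o2
    have l3 := hlin (fun x => S.β x.1) o3
    have l4 := hlin (fun x => T.α x.1) o4
    have l5 := hlin (fun x => T.β x.1) o5
    have hτ' : ∀ i j, S.α (τ (i, j)).1 * (charDegree ((τ (i, j)).1 : G → ℂ) : ℤ) = typeA i * X i j ∧
        S.β (τ (i, j)).1 * (charDegree ((τ (i, j)).1 : G → ℂ) : ℤ) = typeB i * X i j ∧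
        T.α (τ (i, j)).1 * (charDegree ((τ (i, j)).1 : G → ℂ) : ℤ) = typeA j * X i j ∧
        T.β (τ (i, j)).1 * (charDegree ((τ (i, j)).1 : G → ℂ) : ℤ) = typeB j * X i j := by
      intro i j
      obtain ⟨e1, e2, e3, e4⟩ := hτ i j
      change S.α _ = C _ * _ at e1
      change S.β _ = C _ * _ at e2
      change T.α _ = C _ * _ at e3
      change T.β _ = C _ * _ at e4
      rw [e1, e2, e3, e4, hX]
      exact ⟨by ring, by ring, by ring, by ring⟩
    simp only [(hτ' _ _).1, (hτ' _ _).2.1, (hτ' _ _).2.2.1, (hτ' _ _).2.2.2, ← hX,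
      Fin.sum_univ_three] at l1 l2 l3 l4 l5
    simp [typeA, typeB] at l2 l3 l4 l5
    have hrow : ∀ i, X i 0 + X i 1 + X i 2 = 0 := by intro i; fin_cases i <;> simp <;> omega
    have hcol : ∀ j, X 0 j + X 1 j + X 2 j = 0 := by intro j; fin_cases j <;> simp <;> omega
    have hne : ∀ t, t ≠ (0, 0) → (τ t).1 ≠ principal G := fun t ht e =>
      ht (τ.injective (hτ0 ▸ Subtype.ext e))
    have habs : ∀ i j, (X i j).natAbs = charDegree ((τ (i, j)).1 : G → ℂ) := fun i j => by
      rw [hX]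
      rcases hC1 (τ (i, j)) with h | h <;> rw [h] <;> simp
    have hdeg : ∀ i j, (i, j) ≠ (0, 0) → IsDeg q b (X i j) := fun i j h => by
      rw [IsDeg, habs]
      refine ⟨Small.one_lt_charDegree hG (hne _ h), ?_⟩
      obtain ⟨k, l, -, hl, e⟩ := split_of_dvd hq (hcard ▸ Small.charDegree_dvd_card _)
        (hd3 _ (τ (i, j)).2)
      exact ⟨k, l, hl, e⟩
    have hq5 : 5 ≤ q := by
      have := hq.two_le
      rcases Nat.lt_or_ge q 5 with h | h
      · interval_cases q <;> first | omega | exact absurd hq (by norm_num)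
      · exact h
    obtain ⟨a0, k, ha0, -, -, hA⟩ := first_pair hq hq5 (hdeg 0 1 (by decide))
      (by rw [show -1 - X 0 1 = X 0 2 by have := hrow 0; omega]; exact hdeg 0 2 (by decide))
    obtain ⟨j₀, hj₀, hj0⟩ : ∃ j₀ : Fin 3, charDegree ((τ (0, j₀)).1 : G → ℂ) = q ∧ j₀ ≠ 0 := by
      rcases hA with hA | hA
      · exact ⟨1, by rw [← habs, hA, ha0], by decide⟩
      · refine ⟨2, ?_, by decide⟩
        have := hrow 0
        rw [← habs, show X 0 2 = a0 by omega, ha0]
    have hrat : ∀ σ : ℂ ≃+* ℂ, galoisIrr σ (τ (0, j₀)).1 = (τ (0, j₀)).1 := by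
      intro σ
      have hmem := (galoisIrr_mem_principalBlock (p := 3) hI.2.2 σ _).2 (τ (0, j₀)).2
      obtain ⟨⟨i, j⟩, hij⟩ := τ.surjective ⟨_, hmem⟩
      have eC : C (galoisIrr σ (τ (0, j₀)).1) = C (τ (0, j₀)).1 := by
        apply Int.cast_injective (α := ℂ)
        rw [hC, galoisIrr_apply, ← hC, map_intCast]
      obtain ⟨eα, eβ⟩ := S.galois hI (τ (0, j₀)).2 σ
      obtain ⟨eα', eβ'⟩ := T.galois hI (τ (0, j₀)).2 σ
      obtain ⟨f1, f2, f3, f4⟩ := hτ 0 j₀
      obtain ⟨k1, k2, k3, k4⟩ := hτ i j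
      rw [hij] at k1 k2 k3 k4
      change S.α _ = C _ * _ at k1
      change S.β _ = C _ * _ at k2
      change T.α _ = C _ * _ at k3
      change T.β _ = C _ * _ at k4
      change S.α _ = C _ * _ at f1
      change S.β _ = C _ * _ at f2
      change T.α _ = C _ * _ at f3
      change T.β _ = C _ * _ at f4
      rw [eα, eC, f1] at k1
      rw [eβ, eC, f2] at k2
      rw [eα', eC, f3] at k3
      rw [eβ', eC, f4] at k4
      have hc0 : C (τ (0, j₀)).1 ≠ 0 := by rcases hC1 (τ (0, j₀)) with h | h <;> rw [h] <;> norm_num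
      rw [← type_injective hc0 k1 k2, ← type_injective hc0 k3 k4] at hij
      exact (congrArg Subtype.val hij).symm
    have hb : b ≤ 1 := schur_one hG hq hq2 hq3 hcard
      (hne _ (fun e => hj0 (Prod.ext_iff.1 e).2)) hrat (Or.inl hj₀)
    refine array_false hq hq5 X h00 (fun i j h => ?_) hrow hcol
    obtain ⟨h2, k, l, hl, e⟩ := hdeg i j h
    exact ⟨h2, k, l, hl.trans hb, e⟩

end CfsgLib.CharsMore.NinePrimes
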