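import Mathlib
import Cfsg.Agent.Lib.CharsMore.NinePrimes.Klein

/-!
# Three classes of elements of order three or nine force `±1` or a four group
-/

set_option autoImplicit false
set_option linter.style.haveILetI false
set_option linter.unusedSectionVars false

namespace CfsgLib.CharsMore.NinePrimes

open Cfsg CfsgLib CfsgLib.Chars CfsgLib.CharApps Subgroup
open scoped ComplexConjugate

universe u

variable {G : Type u} [Group G] [Finite G] {R : Sylow 3 G}

theorem conj_mem_sylow {n x : G} (hn : n ∈ normalizer ((R : Subgroup G) : Set G))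
    (hx : x ∈ (R : Subgroup G)) : n * x * n⁻¹ ∈ (R : Subgroup G) :=
  (Subgroup.mem_normalizer_iff.1 hn x).1 hx

variable (hab : ∀ x ∈ (R : Subgroup G), ∀ y ∈ (R : Subgroup G), x * y = y * x)
include hab

/-- An element of the normalizer fixes what its cube fixes. -/
theorem fix_of_cube {n x : G} (hn : n ∈ normalizer ((R : Subgroup G) : Set G))
    (hx : x ∈ (R : Subgroup G)) (h : n ^ 3 * x * (n ^ 3)⁻¹ = x) : n * x * n⁻¹ = x := by
  haveI := Fact.mk Nat.prime_three
  obtain ⟨k, m, hm, he⟩ := Nat.exists_eq_pow_mul_and_not_dvd (orderOf_pos n).ne' 3 (by norm_num)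
  have hp : (n ^ m) ^ 3 ^ k = 1 := by rw [← pow_mul, mul_comm, ← he, pow_orderOf_eq_one]
  have hQ : IsPGroup 3 (zpowers (n ^ m)) := by
    rintro ⟨y, hy⟩
    obtain ⟨i, rfl⟩ := Subgroup.mem_zpowers_iff.1 hy
    refine ⟨k, Subtype.ext ?_⟩
    push_cast
    rw [← zpow_natCast ((n ^ m) ^ i), ← zpow_mul, mul_comm, zpow_mul, zpow_natCast, hp, one_zpow]
  have hmR : n ^ m ∈ (R : Subgroup G) := by
    have h1 : n ^ m ∈ zpowers (n ^ m) ⊓ normalizer ((R : Subgroup G) : Set G) :=
      ⟨mem_zpowers _, pow_mem hn m⟩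
    exact ((hQ.inf_normalizer_sylow R).le h1).2
  have h1 : n ^ m ∈ centralizer ({x} : Set G) := mem_centralizer_singleton_iff.2 (hab _ hmR x hx)
  have h2 : n ^ 3 ∈ centralizer ({x} : Set G) :=
    mem_centralizer_singleton_iff.2 (mul_inv_eq_iff_eq_mul.1 h)
  have hcop : IsCoprime ((3 : ℕ) : ℤ) (m : ℤ) :=
    Int.isCoprime_iff_gcd_eq_one.2 ((Nat.prime_three.coprime_iff_not_dvd.2 hm))
  obtain ⟨r, s, hrs⟩ := hcop
  have h3 : n ∈ centralizer ({x} : Set G) := by
    have := mul_mem (zpow_mem h2 r) (zpow_mem h1 s)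
    rwa [← zpow_natCast, ← zpow_natCast, ← zpow_mul, ← zpow_mul, ← zpow_add, mul_comm _ r,
      mul_comm _ s, hrs, zpow_one] at this
  exact mul_inv_eq_iff_eq_mul.2 (mem_centralizer_singleton_iff.1 h3)

omit hab in
theorem orderOf_of_cube {x : G} (hx : x ^ 3 = 1) (hx1 : x ≠ 1) : orderOf x = 3 :=
  haveI := Fact.mk Nat.prime_three
  orderOf_eq_prime hx hx1

theorem exists_coords {x y : G} (hcard : Nat.card (R : Subgroup G) = 9)
    (hx : orderOf x = 3) (hy : orderOf y = 3) (hxR : x ∈ (R : Subgroup G))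
    (hyR : y ∈ (R : Subgroup G)) (hne : y ∉ zpowers x) {z : G} (hz : z ∈ (R : Subgroup G)) :
    ∃ i j : ℕ, i < 3 ∧ j < 3 ∧ z = x ^ i * y ^ j := by
  let f : Fin 3 × Fin 3 → (R : Subgroup G) := fun t =>
    ⟨x ^ (t.1 : ℕ) * y ^ (t.2 : ℕ), mul_mem (pow_mem hxR _) (pow_mem hyR _)⟩
  have hinj : Function.Injective f := by
    rintro ⟨i, j⟩ ⟨i', j'⟩ h
    have h1 : x ^ (i : ℕ) * y ^ (j : ℕ) = x ^ (i' : ℕ) * y ^ (j' : ℕ) := congrArg Subtype.val h
    have h2 : (x ^ (i' : ℕ))⁻¹ * x ^ (i : ℕ) = y ^ (j' : ℕ) * (y ^ (j : ℕ))⁻¹ := by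
      rw [eq_mul_inv_iff_mul_eq, mul_assoc, h1, inv_mul_cancel_left]
    have h3 : y ^ (j' : ℕ) * (y ^ (j : ℕ))⁻¹ ∈ zpowers x := by
      rw [← h2]; exact mul_mem (inv_mem (pow_mem (mem_zpowers x) _)) (pow_mem (mem_zpowers x) _)
    have h4 : y ^ (j' : ℕ) * (y ^ (j : ℕ))⁻¹ = 1 := by
      rcases mem_zpowers_three hy (mul_mem (pow_mem (mem_zpowers y) _)
        (inv_mem (pow_mem (mem_zpowers y) (j : ℕ)))) with e | e | e
      · exact e
      · exact absurd (e ▸ h3) hne
      · exact absurd (inv_mem_iff.1 (e ▸ h3)) hne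
    rw [h4, inv_mul_eq_one] at h2
    rw [mul_inv_eq_one] at h4
    have hi : i = i' := Fin.ext (by
      have := pow_eq_pow_iff_modEq.1 h2
      rw [hx, Nat.ModEq, Nat.mod_eq_of_lt i'.2, Nat.mod_eq_of_lt i.2] at this
      exact this.symm)
    have hj : j = j' := Fin.ext (by
      have := pow_eq_pow_iff_modEq.1 h4
      rw [hy, Nat.ModEq, Nat.mod_eq_of_lt j'.2, Nat.mod_eq_of_lt j.2] at this
      exact this.symm)
    rw [hi, hj]
  have hbij := (Nat.bijective_iff_injective_and_card f).2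
    ⟨hinj, by rw [hcard, Nat.card_prod, Nat.card_fin]⟩
  obtain ⟨⟨i, j⟩, hij⟩ := hbij.2 ⟨z, hz⟩
  exact ⟨i, j, i.2, j.2, (congrArg Subtype.val hij).symm⟩

omit hab in
/-- Two representatives give at most two classes. -/
theorem classes_le_two (hcard : Nat.card (R : Subgroup G) = 9) {x y : G}
    (h : ∀ z ∈ (R : Subgroup G), z ≠ 1 → IsConj x z ∨ IsConj y z) :
    Nat.card {C : ConjClasses G // ∃ g ∈ C.carrier, g ≠ 1 ∧ orderOf g ∣ 9} ≤ 2 := by
  classical
  haveI := Fact.mk Nat.prime_three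
  have hsub : {C : ConjClasses G | ∃ g ∈ C.carrier, g ≠ 1 ∧ orderOf g ∣ 9} ⊆
      {ConjClasses.mk x, ConjClasses.mk y} := by
    rintro C ⟨g, hg, hg1, hg9⟩
    rw [ConjClasses.mem_carrier_iff_mk_eq] at hg
    subst hg
    have hQ : IsPGroup 3 (zpowers g) := by
      obtain ⟨k, -, hk⟩ := (Nat.dvd_prime_pow Nat.prime_three).1
        (show orderOf g ∣ 3 ^ 2 from hg9)
      exact IsPGroup.of_card (n := k) (by rw [Nat.card_zpowers, hk])
    obtain ⟨P, hP⟩ := hQ.exists_le_sylow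
    obtain ⟨c, hc⟩ := MulAction.exists_smul_eq G P R
    have hmem : c * g * c⁻¹ ∈ (R : Subgroup G) := by
      rw [← hc, Sylow.coe_subgroup_smul]
      exact Subgroup.smul_mem_pointwise_smul _ _ _ (hP (mem_zpowers g))
    have hne : c * g * c⁻¹ ≠ 1 := fun e => hg1 (conj_eq_one_iff.1 e)
    have hconj : IsConj g (c * g * c⁻¹) := isConj_iff.2 ⟨c, rfl⟩
    rcases h _ hmem hne with h' | h'
    · exact Or.inl (ConjClasses.mk_eq_mk_iff_isConj.2 (hconj.trans h'.symm))
    · exact Or.inr (ConjClasses.mk_eq_mk_iff_isConj.2 (hconj.trans h'.symm))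
  calc Nat.card {C : ConjClasses G // ∃ g ∈ C.carrier, g ≠ 1 ∧ orderOf g ∣ 9} =
      Set.ncard {C : ConjClasses G | ∃ g ∈ C.carrier, g ≠ 1 ∧ orderOf g ∣ 9} := Nat.card_coe_set_eq _
    _ ≤ Set.ncard {ConjClasses.mk x, ConjClasses.mk y} := Set.ncard_le_ncard hsub (Set.toFinite _)
    _ ≤ 2 := by
      refine (Set.ncard_insert_le _ _).trans ?_
      rw [Set.ncard_singleton]

/-- With three classes the normalizer acts as a group of exponent two. -/
theorem square_fixes (hcard : Nat.card (R : Subgroup G) = 9)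
    (h3 : 3 ≤ Nat.card {C : ConjClasses G // ∃ g ∈ C.carrier, g ≠ 1 ∧ orderOf g ∣ 9})
    (helem : ∀ x ∈ (R : Subgroup G), x ^ 3 = 1) {n x : G}
    (hn : n ∈ normalizer ((R : Subgroup G) : Set G)) (hx : x ∈ (R : Subgroup G)) :
    n ^ 2 * x * (n ^ 2)⁻¹ = x := by
  by_contra hne
  obtain ⟨y, hy⟩ : ∃ y, y = n * x * n⁻¹ := ⟨_, rfl⟩
  have hxy : n ^ 2 * x * (n ^ 2)⁻¹ = n * y * n⁻¹ := by rw [hy, sq]; group
  have hyR : y ∈ (R : Subgroup G) := hy ▸ conj_mem_sylow hn hx
  have hx1 : x ≠ 1 := fun e => hne (by rw [e]; group)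
  have hy1 : y ≠ 1 := fun e => hx1 (conj_eq_one_iff.1 (hy ▸ e))
  have hx3 := orderOf_of_cube (helem x hx) hx1
  have hy3 := orderOf_of_cube (helem y hyR) hy1
  have hnot : y ∉ zpowers x := fun h => hne (by
    rw [hxy]
    rcases mem_zpowers_three hx3 h with e | e | e
    · exact absurd e hy1
    · rw [e, ← hy, e]
    · rw [e, show n * x⁻¹ * n⁻¹ = (n * x * n⁻¹)⁻¹ by group, ← hy, e, inv_inv])
  obtain ⟨i, j, hi, hj, hij⟩ := exists_coords hab hcard hx3 hy3 hx hyR hnot (conj_mem_sylow hn hyR)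
  have hcxy : Commute x y := hab x hx y hyR
  have step : ∀ s t : ℕ, n * (x ^ s * y ^ t) * n⁻¹ = x ^ (i * t) * y ^ (s + j * t) := by
    intro s t
    have e : n * (x ^ s * y ^ t) * n⁻¹ = y ^ s * (x ^ i * y ^ j) ^ t := by
      calc n * (x ^ s * y ^ t) * n⁻¹ = (n * x * n⁻¹) ^ s * (n * y * n⁻¹) ^ t := by
            rw [conj_pow, conj_pow]; group
        _ = _ := by rw [← hy, hij]
    rw [e, (hcxy.pow_pow i j).mul_pow, ← pow_mul, ← pow_mul, ← mul_assoc,
      (hcxy.symm.pow_pow s (i * t)).eq, mul_assoc, ← pow_add]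
  have hred : ∀ s t : ℕ, x ^ s * y ^ t = x ^ (s % 3) * y ^ (t % 3) := fun s t => by
    rw [← pow_eq_pow_mod s (helem x hx), ← pow_eq_pow_mod t (helem y hyR)]
  -- the orbit through `x`
  have iter : ∀ s t : ℕ, IsConj x (x ^ s * y ^ t) →
      IsConj x (x ^ ((i * t) % 3) * y ^ ((s + j * t) % 3)) := fun s t h =>
    h.trans (isConj_iff.2 ⟨n, by rw [step, hred]⟩)
  have cube2 : ∀ s t : ℕ, n ^ 3 * x * (n ^ 3)⁻¹ = x ^ s * y ^ t ↔
      n * (x ^ i * y ^ j) * n⁻¹ = x ^ s * y ^ t := fun s t => by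
    rw [← hij, show n ^ 3 * x * (n ^ 3)⁻¹ = n * (n * (n * x * n⁻¹) * n⁻¹) * n⁻¹ by
      rw [pow_succ, sq]; group, ← hy]
  interval_cases i <;> interval_cases j
  · have e : n * y * n⁻¹ = 1 := by simpa using hij
    exact hy1 (conj_eq_one_iff.1 e)
  · exact hne (by
      have : n * y * n⁻¹ = n * x * n⁻¹ := by rw [← hy]; simpa using hij
      exact absurd (mul_left_cancel (mul_right_cancel this)) fun e => hnot (e ▸ mem_zpowers x))
  · exact hnot (by
      have e : n * y * n⁻¹ = (n * x * n⁻¹) ^ 2 := by rw [← hy]; simpa using hij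
      rw [conj_pow] at e
      exact mul_left_cancel (mul_right_cancel e) ▸ pow_mem (mem_zpowers x) 2)
  · exact hne (by rw [hxy, hij]; simp)
  · -- order eight
    have c0 : IsConj x (x ^ 1 * y ^ 0) := by simpa using IsConj.refl x
    have c1 := iter _ _ c0; norm_num at c1
    have c2 := iter 0 1 (by simpa using c1); norm_num at c2
    have c3 := iter 1 1 (by simpa using c2); norm_num at c3
    have c4 := iter 1 2 (by simpa using c3); norm_num at c4
    have c5 := iter 2 0 (by simpa using c4); norm_num at c5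
    have c6 := iter 0 2 (by simpa using c5); norm_num at c6
    have c7 := iter 2 2 (by simpa using c6); norm_num at c7
    have := classes_le_two hcard (x := x) (y := x) fun z hz hz1 => by
      obtain ⟨s, t, hs, ht, rfl⟩ := exists_coords hab hcard hx3 hy3 hx hyR hnot hz
      left
      interval_cases s <;> interval_cases t <;>
        first | (simp at hz1; done) | simpa using c0 | simpa using c1 | simpa using c2 |
          simpa using c3 | simpa using c4 | simpa using c5 | simpa using c6 | simpa using c7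
    omega
  · -- order eight
    have c0 : IsConj x (x ^ 1 * y ^ 0) := by simpa using IsConj.refl x
    have c1 := iter _ _ c0; norm_num at c1
    have c2 := iter 0 1 (by simpa using c1); norm_num at c2
    have c3 := iter 1 2 (by simpa using c2); norm_num at c3
    have c4 := iter 2 2 (by simpa using c3); norm_num at c4
    have c5 := iter 2 0 (by simpa using c4); norm_num at c5
    have c6 := iter 0 2 (by simpa using c5); norm_num at c6
    have c7 := iter 2 1 (by simpa using c6); norm_num at c7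
    have := classes_le_two hcard (x := x) (y := x) fun z hz hz1 => by
      obtain ⟨s, t, hs, ht, rfl⟩ := exists_coords hab hcard hx3 hy3 hx hyR hnot hz
      left
      interval_cases s <;> interval_cases t <;>
        first | (simp at hz1; done) | simpa using c0 | simpa using c1 | simpa using c2 |
          simpa using c3 | simpa using c4 | simpa using c5 | simpa using c6 | simpa using c7
    omega
  · -- order four
    have c0 : IsConj x (x ^ 1 * y ^ 0) := by simpa using IsConj.refl x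
    have c1 := iter _ _ c0; norm_num at c1
    have c2 := iter 0 1 (by simpa using c1); norm_num at c2
    have c3 := iter 2 0 (by simpa using c2); norm_num at c3
    have gen : ∀ s t : ℕ, IsConj (x * y) (x ^ s * y ^ t) →
        IsConj (x * y) (x ^ ((2 * t) % 3) * y ^ ((s + 0 * t) % 3)) := fun s t h =>
      h.trans (isConj_iff.2 ⟨n, by rw [step, hred]⟩)
    have d0 : IsConj (x * y) (x ^ 1 * y ^ 1) := by simpa using IsConj.refl (x * y)
    have d1 := gen _ _ d0; norm_num at d1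
    have d2 := gen 2 1 (by simpa using d1); norm_num at d2
    have d3 := gen 2 2 (by simpa using d2); norm_num at d3
    have := classes_le_two hcard (x := x) (y := x * y) fun z hz hz1 => by
      obtain ⟨s, t, hs, ht, rfl⟩ := exists_coords hab hcard hx3 hy3 hx hyR hnot hz
      interval_cases s <;> interval_cases t <;>
        first | (simp at hz1; done) |
          (refine Or.inl ?_; simpa using c0; done) | (refine Or.inl ?_; simpa using c1; done) |
          (refine Or.inl ?_; simpa using c2; done) | (refine Or.inl ?_; simpa using c3; done) |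
          (refine Or.inr ?_; simpa using d0; done) | (refine Or.inr ?_; simpa using d1; done) |
          (refine Or.inr ?_; simpa using d2; done) | (refine Or.inr ?_; simpa using d3; done)
    omega
  · -- order six
    have h6 : (n ^ 2) ^ 3 * x * ((n ^ 2) ^ 3)⁻¹ = x := by
      have e3 : n ^ 3 * x * (n ^ 3)⁻¹ = x ^ 2 * y ^ 0 := (cube2 2 0).2 (by rw [step, hred])
      rw [pow_zero, mul_one] at e3
      calc (n ^ 2) ^ 3 * x * ((n ^ 2) ^ 3)⁻¹ = n ^ 3 * (n ^ 3 * x * (n ^ 3)⁻¹) * (n ^ 3)⁻¹ := by group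
        _ = (x ^ 2) ^ 2 := by rw [e3, ← conj_pow, e3]
        _ = x := by rw [← pow_mul, pow_eq_pow_mod _ (helem x hx)]; norm_num
    exact hne (fix_of_cube hab (pow_mem hn 2) hx h6)
  · -- order three
    have e3 : n ^ 3 * x * (n ^ 3)⁻¹ = x ^ 1 * y ^ 0 := (cube2 1 0).2 (by rw [step, hred])
    rw [pow_one, pow_zero, mul_one] at e3
    have h1 := fix_of_cube hab hn hx e3
    rw [← hy] at h1
    exact hnot (h1 ▸ mem_zpowers x)

/-- In a cyclic `R` the normalizer acts as `±1`. -/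
theorem pm_of_not_elementary (hcard : Nat.card (R : Subgroup G) = 9) {x : G}
    (hx : x ∈ (R : Subgroup G)) (hx3 : x ^ 3 ≠ 1) {n : G}
    (hn : n ∈ normalizer ((R : Subgroup G) : Set G)) :
    (∀ z ∈ (R : Subgroup G), n * z * n⁻¹ = z) ∨ (∀ z ∈ (R : Subgroup G), n * z * n⁻¹ = z⁻¹) := by
  have hx9 : orderOf x = 9 := by
    obtain ⟨k, hk, e⟩ := (Nat.dvd_prime_pow Nat.prime_three).1
      (show orderOf x ∣ 3 ^ 2 by rw [show (3 : ℕ) ^ 2 = 9 from rfl, ← hcard]; exact Subgroup.orderOf_dvd_natCard _ hx)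
    interval_cases k
    · have e1 : orderOf x = 1 := by simpa using e
      exact absurd (by rw [orderOf_eq_one_iff.1 e1, one_pow]) hx3
    · have e1 : orderOf x = 3 := by simpa using e
      exact absurd (by rw [← e1, pow_orderOf_eq_one]) hx3
    · simpa using e
  have hgen : ∀ z ∈ (R : Subgroup G), ∃ k : ℕ, k < 9 ∧ x ^ k = z := by
    classical
    intro z hz
    have hle : zpowers x = (R : Subgroup G) := Subgroup.eq_of_le_of_card_ge (zpowers_le.2 hx)
      (by rw [Nat.card_zpowers, hx9, hcard])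
    rw [← hle, mem_zpowers_iff_mem_range_orderOf, hx9] at hz
    obtain ⟨k, hk, e⟩ := Finset.mem_image.1 hz
    exact ⟨k, Finset.mem_range.1 hk, e⟩
  obtain ⟨k, hk, hkx⟩ := hgen _ (conj_mem_sylow hn hx)
  have hit : ∀ j : ℕ, n ^ j * x * (n ^ j)⁻¹ = x ^ k ^ j := by
    intro j
    induction j with
    | zero => simp
    | succ j ih =>
      calc n ^ (j + 1) * x * (n ^ (j + 1))⁻¹ = n * (n ^ j * x * (n ^ j)⁻¹) * n⁻¹ := by
            rw [pow_succ']; group
        _ = (n * x * n⁻¹) ^ k ^ j := by rw [ih, conj_pow]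
        _ = x ^ k ^ (j + 1) := by rw [← hkx, ← pow_mul, pow_succ']
  have hmod : ∀ j, x ^ j = x ^ (j % 9) := fun j => by rw [← hx9, pow_mod_orderOf]
  have hout : k = 1 ∨ k = 8 := by
    by_contra hbad
    push Not at hbad
    by_cases h3 : 3 ∣ k
    · obtain ⟨l, rfl⟩ := h3
      have h9 : (n * x * n⁻¹) ^ 3 = 1 := by
        rw [← hkx, ← pow_mul, hmod, show 3 * l * 3 % 9 = 0 by omega, pow_zero]
      rw [conj_pow, conj_eq_one_iff] at h9
      exact hx3 h9
    have h6 : (n ^ 2) ^ 3 * x * ((n ^ 2) ^ 3)⁻¹ = x := by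
      rw [← pow_mul, hit, hmod]
      interval_cases k <;> first | omega | (norm_num; done)
    have h2 := fix_of_cube hab (pow_mem hn 2) hx h6
    rw [hit] at h2
    nth_rewrite 2 [← pow_one x] at h2
    rw [pow_eq_pow_iff_modEq, hx9, Nat.ModEq] at h2
    interval_cases k <;> omega
  rcases hout with rfl | rfl
  · refine Or.inl fun z hz => ?_
    obtain ⟨j, -, rfl⟩ := hgen z hz
    rw [← conj_pow, ← hkx, pow_one]
  · refine Or.inr fun z hz => ?_
    obtain ⟨j, -, rfl⟩ := hgen z hz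
    rw [← conj_pow, ← hkx, eq_inv_of_mul_eq_one_left (a := x ^ 8) (b := x)
      (by rw [← pow_succ]; exact (congrArg (x ^ ·) hx9.symm).trans (pow_orderOf_eq_one x)), inv_pow]

omit hab in
/-- A homomorphism to an abelian group kills a simple nonabelian group. -/
theorem hom_eq_one [IsSimpleGroup G] (hG : ¬ IsMulCommutative G) {A : Type*} [CommGroup A]
    (f : G →* A) (g : G) : f g = 1 := by
  rcases f.normal_ker.eq_bot_or_eq_top with h | h
  · refine absurd ⟨⟨fun a b => ?_⟩⟩ hG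
    exact (MonoidHom.ker_eq_bot_iff f).1 h (by rw [map_mul, map_mul, mul_comm])
  · exact MonoidHom.mem_ker.1 (h ▸ Subgroup.mem_top g)

/-- The normalizer fixes no nonidentity element of `R`. -/
theorem exists_moves [IsSimpleGroup G] (hG : ¬ IsMulCommutative G) {u : G}
    (hu : u ∈ (R : Subgroup G)) (hu1 : u ≠ 1) :
    ∃ n ∈ normalizer ((R : Subgroup G) : Set G), n * u * n⁻¹ ≠ u := by
  classical
  haveI := Fact.mk Nat.prime_three
  by_contra hall
  push Not at hall
  have hle : (R : Subgroup G) ≤ centralizer ((R : Subgroup G) : Set G) := fun x hx =>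
    mem_centralizer_iff.2 fun y hy => hab y hy x hx
  letI : CommGroup (R : Subgroup G) :=
    { (inferInstance : Group (R : Subgroup G)) with
      mul_comm := fun a b => Subtype.ext (hab a a.2 b b.2) }
  haveI : NeZero (Monoid.exponent (R : Subgroup G) : ℂ) :=
    ⟨Nat.cast_ne_zero.mpr Monoid.exponent_ne_zero_of_finite⟩
  obtain ⟨ψ, hψ⟩ := CommGroup.exists_apply_ne_one_of_hasEnoughRootsOfUnity (R : Subgroup G) ℂ
    (a := ⟨u, hu⟩) (fun e => hu1 (congrArg Subtype.val e))
  have key : ∀ (k : ℕ) (g₀ : G), g₀⁻¹ * u ^ k * g₀ ∈ (R : Subgroup G) →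
      g₀⁻¹ * u ^ k * g₀ = u ^ k := fun k g₀ h => by
    obtain ⟨n, hn, e⟩ := Transfer.exists_mem_normalizer_conj R (hle (pow_mem hu k)) (hle h)
      (g := g₀⁻¹) (by rw [inv_inv])
    rw [← e, ← conj_pow, hall n hn]
  have h1 := hom_eq_one hG (MonoidHom.transfer ψ) u
  rw [MonoidHom.transfer_eq_pow ψ u key] at h1
  have h2 : ψ ⟨u, hu⟩ ^ (R : Subgroup G).index = 1 := by
    rw [← map_pow]; exact h1
  have h9 : ψ ⟨u, hu⟩ ^ Nat.card (R : Subgroup G) = 1 := by rw [← map_pow, pow_card_eq_one', map_one]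
  obtain ⟨k, hk⟩ := R.2.exists_card_eq
  rw [hk] at h9
  exact hψ (orderOf_eq_one_iff.1 (Nat.eq_one_of_dvd_coprimes
    (Nat.Coprime.pow_left k (Nat.prime_three.coprime_iff_not_dvd.2 R.not_dvd_index))
    (orderOf_dvd_of_pow_eq_one h9) (orderOf_dvd_of_pow_eq_one h2)))

/-- The two possibilities. -/
theorem inverted_or_fourGroup [IsSimpleGroup G] (hG : ¬ IsMulCommutative G)
    (hcard : Nat.card (R : Subgroup G) = 9)
    (h3 : 3 ≤ Nat.card {C : ConjClasses G // ∃ g ∈ C.carrier, g ≠ 1 ∧ orderOf g ∣ 9}) :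
    Inverted R ∨ ∃ u v gu gv : G, FourGroup R u v gu gv := by
  by_cases hA : ∀ n ∈ normalizer ((R : Subgroup G) : Set G),
      (∀ z ∈ (R : Subgroup G), n * z * n⁻¹ = z) ∨ (∀ z ∈ (R : Subgroup G), n * z * n⁻¹ = z⁻¹)
  · refine Or.inl ⟨hcard, hab, ?_, hA⟩
    obtain ⟨x, hx, hx1⟩ : ∃ x ∈ (R : Subgroup G), x ≠ 1 := by
      by_contra h
      push Not at h
      rw [(Subgroup.eq_bot_iff_forall _).2 h, Subgroup.card_bot] at hcard
      norm_num at hcard
    obtain ⟨n, hn, hne⟩ := exists_moves hab hG hx hx1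
    exact ⟨n, hn, (hA n hn).resolve_left fun h => hne (h x hx)⟩
  push Not at hA
  obtain ⟨n, hn, ⟨x, hx, hxne⟩, y, hy, hyne⟩ := hA
  have helem : ∀ z ∈ (R : Subgroup G), z ^ 3 = 1 := by
    by_contra h
    push Not at h
    obtain ⟨z, hz, hz3⟩ := h
    rcases pm_of_not_elementary hab hcard hz hz3 hn with h | h
    · exact hxne (h x hx)
    · exact hyne (h y hy)
  have sq : ∀ m ∈ normalizer ((R : Subgroup G) : Set G), ∀ z ∈ (R : Subgroup G),
      m * (m * z * m⁻¹) * m⁻¹ = z := fun m hm z hz => by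
    refine Eq.trans ?_ (square_fixes hab hcard h3 helem hm hz)
    rw [pow_two]; group
  have hcom : ∀ m ∈ normalizer ((R : Subgroup G) : Set G), ∀ m' ∈ normalizer ((R : Subgroup G) : Set G),
      ∀ z ∈ (R : Subgroup G), m * (m' * z * m'⁻¹) * m⁻¹ = m' * (m * z * m⁻¹) * m'⁻¹ := by
    intro m hm m' hm' z hz
    have h1 := sq (m * m') (mul_mem hm hm') z hz
    have h2 : m * (m' * z * m'⁻¹) * m⁻¹ = m * m' * z * (m * m')⁻¹ := by group
    have h4 : m' * (m' * (m * z * m⁻¹) * m'⁻¹) * m'⁻¹ = m * z * m⁻¹ := sq m' hm' _ (conj_mem_sylow hm hz)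
    have hmz := sq m hm _ (conj_mem_sylow hm' (conj_mem_sylow hm hz))
    calc m * (m' * z * m'⁻¹) * m⁻¹ =
        m * (m' * (m * (m * z * m⁻¹) * m⁻¹) * m'⁻¹) * m⁻¹ := by rw [sq m hm z hz]
      _ = m * m' * (m * (m' * (m' * (m * z * m⁻¹) * m'⁻¹) * m'⁻¹) * m⁻¹) * (m * m')⁻¹ := by
          rw [h4]; group
      _ = m' * (m * z * m⁻¹) * m'⁻¹ := by
          have := sq (m * m') (mul_mem hm hm') _ (conj_mem_sylow hm' (conj_mem_sylow hm hz))
          refine Eq.trans ?_ this
          group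
  obtain ⟨x', hx'⟩ : ∃ x', x' = n * x * n⁻¹ := ⟨_, rfl⟩
  obtain ⟨y', hy'⟩ : ∃ y', y' = n * y * n⁻¹ := ⟨_, rfl⟩
  have hx'R : x' ∈ (R : Subgroup G) := hx' ▸ conj_mem_sylow hn hx
  have hy'R : y' ∈ (R : Subgroup G) := hy' ▸ conj_mem_sylow hn hy
  obtain ⟨u, hu⟩ : ∃ u, u = y * y' := ⟨_, rfl⟩
  obtain ⟨v, hv⟩ : ∃ v, v = x⁻¹ * x' := ⟨_, rfl⟩
  have huR : u ∈ (R : Subgroup G) := hu ▸ mul_mem hy hy'R
  have hvR : v ∈ (R : Subgroup G) := hv ▸ mul_mem (inv_mem hx) hx'R
  have hnu : n * u * n⁻¹ = u := by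
    rw [hu, show n * (y * y') * n⁻¹ = (n * y * n⁻¹) * (n * y' * n⁻¹) by group, hy', sq n hn y hy]
    exact (hab y hy _ (conj_mem_sylow hn hy)).symm
  have hnv : n * v * n⁻¹ = v⁻¹ := by
    rw [hv, show n * (x⁻¹ * x') * n⁻¹ = (n * x * n⁻¹)⁻¹ * (n * x' * n⁻¹) by group, hx', sq n hn x hx]
    group
  have hu1 : u ≠ 1 := fun e => hyne (by
    rw [← hy']; exact eq_inv_of_mul_eq_one_right (hu ▸ e))
  have hv1 : v ≠ 1 := fun e => hxne (by rw [← hx']; exact (inv_mul_eq_one.1 (hv ▸ e)).symm)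
  have hu3 := orderOf_of_cube (helem u huR) hu1
  have hv3 := orderOf_of_cube (helem v hvR) hv1
  have hne : u ∉ zpowers v := fun h => by
    rcases mem_zpowers_three hv3 h with e | e | e
    · exact hu1 e
    all_goals
      have h2 : u = u⁻¹ := by
        first
        | (nth_rewrite 1 [← hnu]; rw [e, hnv]; done)
        | (nth_rewrite 1 [← hnu]; rw [e, show n * v⁻¹ * n⁻¹ = (n * v * n⁻¹)⁻¹ by group, hnv]; done)
      have := orderOf_dvd_of_pow_eq_one (show u ^ 2 = 1 by
        rw [pow_two]; nth_rewrite 2 [h2]; rw [mul_inv_cancel])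
      rw [hu3] at this
      norm_num at this
  have hnvu : v ∉ zpowers u := fun h => by
    rcases mem_zpowers_three hu3 h with e | e | e
    · exact hv1 e
    · exact hne (e ▸ mem_zpowers v)
    · exact hne (inv_mem_iff.1 (e ▸ mem_zpowers v))
  have hact : ∀ m ∈ normalizer ((R : Subgroup G) : Set G),
      (m * u * m⁻¹ = u ∨ m * u * m⁻¹ = u⁻¹) ∧ (m * v * m⁻¹ = v ∨ m * v * m⁻¹ = v⁻¹) := by
    intro m hm
    have huv : Commute u v := hab u huR v hvR
    have hu2 : u ^ 2 = u⁻¹ := eq_inv_of_mul_eq_one_left (by rw [← pow_succ, helem u huR])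
    have hv2 : v ^ 2 = v⁻¹ := eq_inv_of_mul_eq_one_left (by rw [← pow_succ, helem v hvR])
    have hN : ∀ i j : ℕ, n * (u ^ i * v ^ j) * n⁻¹ = u ^ i * (v⁻¹) ^ j := fun i j => by
      calc n * (u ^ i * v ^ j) * n⁻¹ = (n * u * n⁻¹) ^ i * (n * v * n⁻¹) ^ j := by
            rw [conj_pow, conj_pow]; group
        _ = _ := by rw [hnu, hnv]
    refine ⟨?_, ?_⟩
    · obtain ⟨i, j, hi, hj, e⟩ := exists_coords hab hcard hu3 hv3 huR hvR hnvu (conj_mem_sylow hm huR)
      have h1 := hcom n hn m hm u huR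
      rw [hnu, e, hN, mul_right_inj, inv_pow, inv_eq_iff_mul_eq_one, ← pow_add] at h1
      have hj3 := orderOf_dvd_of_pow_eq_one h1
      rw [hv3] at hj3
      obtain rfl : j = 0 := by omega
      rw [pow_zero, mul_one] at e
      interval_cases i
      · have e1 : m * u * m⁻¹ = 1 := by simpa using e
        exact absurd (conj_eq_one_iff.1 e1) hu1
      · exact Or.inl (by simpa using e)
      · exact Or.inr (e.trans hu2)
    · obtain ⟨i, j, hi, hj, e⟩ := exists_coords hab hcard hu3 hv3 huR hvR hnvu (conj_mem_sylow hm hvR)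
      have h1 := hcom n hn m hm v hvR
      rw [hnv, show m * v⁻¹ * m⁻¹ = (m * v * m⁻¹)⁻¹ by group, e, hN, mul_inv_rev,
        ← inv_pow v j, ← inv_pow u i, ((huv.inv_inv).pow_pow i j).symm.eq, mul_left_inj,
        inv_pow, eq_inv_iff_mul_eq_one, ← pow_add] at h1
      have hi3 := orderOf_dvd_of_pow_eq_one h1
      rw [hu3] at hi3
      obtain rfl : i = 0 := by omega
      rw [pow_zero, one_mul] at e
      interval_cases j
      · have e1 : m * v * m⁻¹ = 1 := by simpa using e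
        exact absurd (conj_eq_one_iff.1 e1) hv1
      · exact Or.inl (by simpa using e)
      · exact Or.inr (e.trans hv2)
  obtain ⟨g, hg, hgu⟩ := exists_moves hab hG huR hu1
  have hgu' := (hact g hg).1.resolve_left hgu
  refine Or.inr ⟨u, v, ?_⟩
  rcases (hact g hg).2 with hgv | hgv
  · exact ⟨g, n, hcard, hab, hu3, hv3, huR, hvR, hne, hg, hgu', hgv, hn, hnu, hnv, hact⟩
  · refine ⟨g * n, n, hcard, hab, hu3, hv3, huR, hvR, hne, mul_mem hg hn, ?_, ?_, hn, hnu, hnv, hact⟩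
    · rw [show g * n * u * (g * n)⁻¹ = g * (n * u * n⁻¹) * g⁻¹ by group, hnu, hgu']
    · rw [show g * n * v * (g * n)⁻¹ = (g * (n * v * n⁻¹)⁻¹ * g⁻¹)⁻¹ by group, hnv, inv_inv, hgv,
        inv_inv]

end CfsgLib.CharsMore.NinePrimes
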